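import Groth.Agent.Lib.Lead.Pn.Cover
import Groth.Agent.Lib.Helper22.Cech.SchemeLeray

/-!
# Vanishing of the cohomology of `O(d)` on projective space
-/

set_option autoImplicit false

universe u

open CategoryTheory CategoryTheory.Limits AlgebraicGeometry Opposite TopologicalSpace MvPolynomial

namespace Groth.Agent.Lib.Lead.Pn

open Groth.Agent.Lib.Helper29.QCoh Groth.Agent.Lib.Helper22.Cech

variable {n : ℕ} {R : Type u} [CommRing R] {d : ℤ}

variable (n R) in
lemma degree_one_cover :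
    (⨆ f : 𝒜 n R 1, Proj.basicOpen (𝒜 n R) (f : MvPolynomial (Fin (n + 1)) R)) = ⊤ := by
  rw [eq_top_iff]
  intro x _
  obtain ⟨g, hg⟩ := projSpace_degree_one_cover n R x
  exact Opens.mem_iSup.mpr ⟨g, hg⟩

variable (n R d) in
lemma twist_isInvertible : PicF.IsInvertible (Twist.twist (𝒜 n R) d) :=
  (twist_invertible_and_tensor (𝒜 := 𝒜 n R) (degree_one_cover n R)).1 d

variable (n R d) in
instance twist_isQuasicoherent : (Twist.twist (𝒜 n R) d).IsQuasicoherent :=
  isQuasicoherent_of_isInvertible (twist_isInvertible n R d)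

variable (n R) in
lemma iSup_stdCov : ⨆ i, stdCov n R i = ⊤ := by
  rw [eq_top_iff]
  intro x _
  obtain ⟨i, hi⟩ := exists_mem_basicOpen_X n R x
  exact Opens.mem_iSup.mpr ⟨ULift.up i, hi⟩

lemma exists_basicOpen_eq_iInf (s : Finset (ULift.{u} (Fin (n + 1)))) (hs : s.Nonempty) :
    ∃ (m : ℕ) (f : MvPolynomial (Fin (n + 1)) R), 0 < m ∧ f ∈ 𝒜 n R m ∧
      (⨅ i ∈ s, stdCov n R i) = Proj.basicOpen (𝒜 n R) f := by
  classical
  induction hs using Finset.Nonempty.cons_induction with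
  | singleton a =>
    refine ⟨1, X a.down, one_pos, isHomogeneous_X R a.down, ?_⟩
    simp only [Finset.mem_singleton, iInf_iInf_eq_left]
    rfl
  | cons a s ha hs ih =>
    obtain ⟨m, f, hm, hf, he⟩ := ih
    refine ⟨1 + m, X a.down * f, by omega,
      SetLike.mul_mem_graded (isHomogeneous_X R a.down) hf, ?_⟩
    rw [Finset.cons_eq_insert, Finset.iInf_insert, he, Proj.basicOpen_mul]
    rfl

lemma isAffineOpen_iInf_stdCov (s : Finset (ULift.{u} (Fin (n + 1)))) (hs : s.Nonempty) :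
    IsAffineOpen (⨅ i ∈ s, stdCov n R i) := by
  obtain ⟨m, f, hm, hf, he⟩ := exists_basicOpen_eq_iInf (R := R) s hs
  rw [he]
  exact Proj.isAffineOpen_basicOpen (𝒜 n R) f hf hm

/-- `H^p(P^n_R, O(d)) = 0` for `0 < p < n`, and for all `p > 0` when `d > -(n+1)`. -/
theorem subsingleton_HH_succ (q : ℕ) (h : q + 1 < n ∨ -((n : ℤ) + 1) < d) :
    Subsingleton (Coh.HH (Proj (𝒜 n R)) (Twist.twist (𝒜 n R) d) (q + 1)) := by
  obtain ⟨e⟩ := nonempty_cechH_addEquiv_HH (Proj (𝒜 n R)) (Twist.twist (𝒜 n R) d) (stdCov n R)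
    (iSup_stdCov n R) isAffineOpen_iInf_stdCov (q + 1)
  have hz := isZero_cech_succ (R := R) (d := d) q h
  have : Subsingleton ↑(CohB1.cechH (stdCov n R) (Twist.twist (𝒜 n R) d) (q + 1)) :=
    AddCommGrpCat.subsingleton_of_isZero hz
  exact e.symm.toEquiv.subsingleton

end Groth.Agent.Lib.Lead.Pn
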