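import Groth.Agent.Lib.Lead.Pn.Vanish

/-!
# Global sections of `O(d)`, `d < 0`, on `P^n`, `n ≥ 1`, vanish
-/

set_option autoImplicit false

universe u

open CategoryTheory CategoryTheory.Limits AlgebraicGeometry Opposite TopologicalSpace MvPolynomial

namespace Groth.Agent.Lib.Lead.Pn

open Groth.Agent.Lib.Helper29.QCoh Groth.Agent.Lib.Helper22.Cech

variable {n : ℕ} {R : Type u} [CommRing R] {d : ℤ}

/-- The constant tuple. -/
def cst (i : Fin (n + 1)) : Fin 1 → ULift.{u} (Fin (n + 1)) := fun _ => ULift.up i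

lemma range_cst (i : Fin (n + 1)) : Set.range (cst.{u} i) = {ULift.up i} := by
  ext a
  constructor
  · rintro ⟨_, rfl⟩; rfl
  · rintro rfl; exact ⟨0, rfl⟩

lemma Φs_res_top {q : ℕ} (σ : Fin (q + 1) → ULift.{u} (Fin (n + 1)))
    (s : Γ(Twist.twist (𝒜 n R) d, ⊤)) :
    Φs n R d σ (Groth.Agent.Lib.Helper29.QCoh.res (Twist.twist (𝒜 n R) d) le_top s) =
      coeffW (Groth.Agent.Lib.Helper29.QCoh.res (Twist.twist (𝒜 n R) d)
        (le_top : Wopen n R ≤ ⊤) s) := by
  change coeffW (Groth.Agent.Lib.Helper29.QCoh.res (Twist.twist (𝒜 n R) d) _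
    (Groth.Agent.Lib.Helper29.QCoh.res (Twist.twist (𝒜 n R) d) le_top s)) = _
  rw [res_res]

theorem global_section_eq_zero (hn : 1 ≤ n) (hd : d < 0) (s : Γ(Twist.twist (𝒜 n R) d, ⊤)) :
    s = 0 := by
  classical
  set c := coeffW (Groth.Agent.Lib.Helper29.QCoh.res (Twist.twist (𝒜 n R) d)
    (le_top : Wopen n R ≤ ⊤) s) with hc
  have hsupp : ∀ i : Fin (n + 1), Function.support c ⊆ Tset n d {ULift.up i} := by
    intro i
    have := (Φs_support (cst i) (Groth.Agent.Lib.Helper29.QCoh.res (Twist.twist (𝒜 n R) d)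
      le_top s)).2
    rwa [Φs_res_top, range_cst] at this
  have hc0 : c = 0 := by
    funext e
    by_contra hne
    have hne' : e ∈ Function.support c := hne
    have hnonneg : ∀ j, 0 ≤ e j := by
      intro j
      obtain ⟨i, hi⟩ : ∃ i : Fin (n + 1), i ≠ j := by
        by_cases hj : j = 0
        · exact ⟨1, by rw [hj]; intro h; have := congrArg Fin.val h; simp at this; omega⟩
        · exact ⟨0, fun h => hj h.symm⟩
      apply (hsupp i hne').2 j
      intro h
      have : ULift.up j = ULift.up i := h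
      exact hi (congrArg ULift.down this).symm
    have hsum := (hsupp 0 hne').1
    have : 0 ≤ ∑ i, e i := Finset.sum_nonneg fun i _ => hnonneg i
    omega
  apply tfun_ext
  intro x
  obtain ⟨i, hi⟩ := exists_mem_basicOpen_X n R x.1
  have h0 : Groth.Agent.Lib.Helper29.QCoh.res (Twist.twist (𝒜 n R) d)
      (le_top : Us (R := R) (cst i) ≤ ⊤) s = 0 := by
    apply Φs_injective
    rw [Φs_res_top, ← hc, hc0]
  have hx : x.1 ∈ Us (R := R) (cst i) := by
    apply le_Uσ (stdCov n R) (cst i) (V := stdCov n R (ULift.up i)) (fun _ => le_rfl)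
    exact hi
  have h1 := tfun_res (𝒜 n R) (le_top : Us (R := R) (cst i) ≤ ⊤) s ⟨x.1, hx⟩
  rw [h0] at h1
  exact h1.symm

theorem subsingleton_HH_zero (hn : 1 ≤ n) (hd : d < 0) :
    Subsingleton (Coh.HH (Proj (𝒜 n R)) (Twist.twist (𝒜 n R) d) 0) := by
  have : Subsingleton (Γ(Twist.twist (𝒜 n R) d, ⊤) : Type u) :=
    ⟨fun a b => by rw [global_section_eq_zero hn hd a, global_section_eq_zero hn hd b]⟩
  exact (hh0 (Twist.twist (𝒜 n R) d)).toEquiv.subsingleton

end Groth.Agent.Lib.Lead.Pn
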