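import Groth.Agent.Lib.Lead.Pn.TopCoh

/-!
# The top (= zeroth) cohomology of `O(-1-k)` on `P^0_R`
-/

set_option autoImplicit false

universe u

open CategoryTheory CategoryTheory.Limits AlgebraicGeometry Opposite TopologicalSpace MvPolynomial

namespace Groth.Agent.Lib.Lead.Pn

open Groth.Agent.Lib.Helper29.QCoh Groth.Agent.Lib.Helper22.Cech

variable {R : Type u} [CommRing R]

section zero

variable {d : ℤ}

/-- On `P^0`, the only standard open is everything. -/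
lemma Us_cst_eq_top : Us (R := R) (cst.{u} (0 : Fin 1)) = ⊤ := by
  rw [eq_top_iff]
  intro x _
  obtain ⟨i, hi⟩ := exists_mem_basicOpen_X 0 R x
  have hi0 : i = 0 := Fin.ext (by have := i.2; omega)
  subst hi0
  exact le_Uσ (stdCov 0 R) (cst 0) (V := stdCov 0 R (ULift.up 0)) (fun _ => le_rfl) hi

/-- The coefficient function of a global section on `P^0`. -/
noncomputable def coeffTop0 (s : Γ(Twist.twist (𝒜 0 R) d, ⊤)) : (Fin 1 → ℤ) → R :=
  Φs 0 R d (cst 0) (Groth.Agent.Lib.Helper29.QCoh.res (Twist.twist (𝒜 0 R) d) le_top s)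

lemma coeffTop0_mem (hd : d < 0) (s : Γ(Twist.twist (𝒜 0 R) d, ⊤)) :
    coeffTop0 s ∈ Ttop' 0 R d := by
  intro e he
  have h1 := (Φs_support (cst 0) _).2 he
  have h2 : e 0 = d := by
    have := h1.1
    simpa using this
  refine ⟨h1.1, fun i => ?_⟩
  have hi0 : i = 0 := Fin.ext (by have := i.2; omega)
  rw [hi0, h2]
  exact hd

lemma coeffTop0_rsmul (r : R) (s : Γ(Twist.twist (𝒜 0 R) d, ⊤)) :
    coeffTop0 ((gfun 0 r) • s) = r • coeffTop0 s := by
  unfold coeffTop0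
  rw [res_smul]
  exact Φs_rsmul (cst 0) r _

lemma coeffTop0_add (s s' : Γ(Twist.twist (𝒜 0 R) d, ⊤)) :
    coeffTop0 (s + s') = coeffTop0 s + coeffTop0 s' := by
  unfold coeffTop0
  rw [map_add, map_add]

/-- The coefficient map as an additive map into the top module. -/
noncomputable def G0 (hd : d < 0) : Γ(Twist.twist (𝒜 0 R) d, ⊤) →+ Ttop' 0 R d :=
  AddMonoidHom.mk' (fun s => ⟨coeffTop0 s, coeffTop0_mem hd s⟩) (by
    intro s s'
    apply Subtype.ext
    exact coeffTop0_add s s')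

lemma G0_val (hd : d < 0) (s : Γ(Twist.twist (𝒜 0 R) d, ⊤)) :
    (G0 hd s).1 = coeffTop0 s := rfl

lemma G0_injective (hd : d < 0) : Function.Injective (G0 (R := R) hd) := by
  rw [injective_iff_map_eq_zero]
  intro s hs
  have h1 : coeffTop0 s = 0 := congrArg Subtype.val hs
  have h2 := Φs_injective (cst 0) _ h1
  exact res_injective_of_eq (Twist.twist (𝒜 0 R) d) Us_cst_eq_top (by rw [map_zero]; exact h2)

lemma G0_surjective (hd : d < 0) : Function.Surjective (G0 (R := R) hd) := by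
  intro t
  have hfin : (Function.support t.1).Finite :=
    (EnegD'_finite 0 d).subset fun e he => t.2 e he
  obtain ⟨s₁, hs₁⟩ := Φs_surjective (d := d) (cst 0) t.1 hfin (by
    intro e he
    refine ⟨(t.2 e he).1, fun i hi => ?_⟩
    exfalso
    apply hi
    have hi0 : i = 0 := Fin.ext (by have := i.2; omega)
    rw [hi0]
    exact ⟨0, rfl⟩)
  refine ⟨Groth.Agent.Lib.Helper29.QCoh.res (Twist.twist (𝒜 0 R) d)
    (Us_cst_eq_top (R := R)).ge s₁, ?_⟩
  apply Subtype.ext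
  rw [G0_val]
  unfold coeffTop0
  rw [res_res, res_self]
  exact hs₁

lemma G0_rsmul (hd : d < 0) (r : R) (s : Γ(Twist.twist (𝒜 0 R) d, ⊤)) :
    G0 hd ((gfun 0 r) • s) = r • G0 hd s := by
  apply Subtype.ext
  exact coeffTop0_rsmul r s

/-- The additive equivalence `H^0(P^0, O(d)) ≃ Ttop'`. -/
noncomputable def e00 (hd : d < 0) :
    Coh.HH (Proj (𝒜 0 R)) (Twist.twist (𝒜 0 R) d) 0 ≃+ Ttop' 0 R d :=
  (hh0 (Twist.twist (𝒜 0 R) d)).trans (AddEquiv.ofBijective (G0 hd) ⟨G0_injective hd, G0_surjective hd⟩)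

lemma e00_apply (hd : d < 0) (h : Coh.HH (Proj (𝒜 0 R)) (Twist.twist (𝒜 0 R) d) 0) :
    e00 hd h = G0 hd (hh0 (Twist.twist (𝒜 0 R) d) h) := rfl

lemma e00_smul (hd : d < 0) (r : R) (h : Coh.HH (Proj (𝒜 0 R)) (Twist.twist (𝒜 0 R) d) 0) :
    e00 hd ((show Coh.Γtop (Proj (𝒜 0 R)) from Coh.toGlobal (CohB1.ProjSpace.toSpec 0 R) r) • h) =
      r • e00 hd h := by
  rw [e00_apply, e00_apply, hh0_smul]
  exact G0_rsmul hd r _

end zero

/-- **Top cohomology of `O(d)` on `P^0_R`**, `R`-linearly. -/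
theorem nonempty_top_linearEquiv_zero (k : ℕ) :
    Nonempty (Coh.HH (CohB1.ProjSpace 0 R)
      (Twist.twistProjSpace 0 R (-(((0 : ℕ) : ℤ) + 1 + k))) 0 ≃ₗ[R]
        ↥(homogeneousSubmodule (Fin (0 + 1)) R k)) := by
  have hd0 : (-(((0 : ℕ) : ℤ) + 1 + k)) < 0 := by
    push_cast
    omega
  let e₁ : Coh.HH (CohB1.ProjSpace 0 R) (Twist.twistProjSpace 0 R (-(((0 : ℕ) : ℤ) + 1 + k))) 0
      ≃ₗ[R] Ttop' 0 R (-(((0 : ℕ) : ℤ) + 1 + k)) :=
    { e00 hd0 with map_smul' := fun r h => e00_smul hd0 r h }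
  exact ⟨e₁.trans (polyTopEquiv 0 R k).symm⟩

end Groth.Agent.Lib.Lead.Pn
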