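import Groth.Agent.Lib.Lead.LinLES.Biprod
import Groth.Agent.Lib.Lead.Pn.Vanish
import Groth.Agent.Lib.Helper29.TwistPn2
import Groth.Agent.Lib.Helper29.SerreA
import Groth.Agent.S0846
import Groth.Agent.S2357
import Groth.Agent.S0022
import Groth.Agent.S0844
import Groth.Agent.S0845
import Groth.Agent.S9514

/-!
# Finiteness of the cohomology of coherent modules on `P^n_R`, `R` Noetherian
-/

set_option autoImplicit false

universe u

open CategoryTheory CategoryTheory.Limits AlgebraicGeometry Opposite TopologicalSpace MvPolynomial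

namespace Groth.Agent.Lib.Lead.Pn

open Groth.Agent.Lib.Helper29.QCoh Groth.Agent.Lib.Lead.LinLES

attribute [local instance] CategoryTheory.Abelian.hasFiniteBiproducts

variable (n : ℕ) (R : Type u) [CommRing R]

/-- The cohomology of `O(d)` on `P^n_R` is a finite `R`-module. -/
theorem module_finite_HH_twist (d : ℤ) (q : ℕ) :
    Module.Finite R (Coh.HH (CohB1.ProjSpace n R) (Twist.twistProjSpace n R d) q) := by
  by_cases h₀ : q = 0 ∧ 0 ≤ d
  · obtain ⟨rfl, hd⟩ := h₀
    obtain ⟨m, rfl⟩ := Int.eq_ofNat_of_zero_le hd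
    haveI : Module.Finite R (CohB1.polyGrading n R m) :=
      Module.Finite.iff_fg.mpr (homogeneousSubmodule_fg (Fin (n + 1)) R m)
    exact Module.Finite.equiv (h0TwistEquiv n R m)
  · by_cases hn : q = n ∧ d ≤ -((n : ℤ) + 1)
    · obtain ⟨rfl, hd⟩ := hn
      obtain ⟨k, hk⟩ := Int.eq_ofNat_of_zero_le (show 0 ≤ -d - q - 1 by omega)
      have hd' : d = -((q : ℤ) + 1 + k) := by omega
      subst hd'
      obtain ⟨e⟩ := Groth.Agent.S0845.result R q k
      haveI : Module.Finite R (homogeneousSubmodule (Fin (q + 1)) R k) :=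
        Module.Finite.iff_fg.mpr (homogeneousSubmodule_fg (Fin (q + 1)) R k)
      exact Module.Finite.equiv e.symm
    · haveI := Groth.Agent.S0844.result R n d q h₀ hn
      infer_instance

lemma isCoh_twist (d : ℤ) : Coh.IsCoh (Twist.twistProjSpace n R d) :=
  ⟨twist_isQuasicoherent n R d, isFiniteType_of_isInvertible (twist_isInvertible n R d)⟩

variable [IsNoetherianRing R]

instance isLocallyNoetherian_projSpace : IsLocallyNoetherian (CohB1.ProjSpace n R) := by
  haveI : IsNoetherian (Proj (CohB1.polyGrading n R)) :=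
    Groth.Agent.S2357.result (CohB1.polyGrading n R)
  exact inferInstanceAs (IsLocallyNoetherian (Proj (CohB1.polyGrading n R)))

/-- One step of the descending induction. -/
theorem module_finite_HH_step (q : ℕ)
    (ih : ∀ M : (CohB1.ProjSpace n R).Modules, Coh.IsCoh M →
      Module.Finite R (Coh.HH (CohB1.ProjSpace n R) M (q + 1)))
    (M : (CohB1.ProjSpace n R).Modules) (hM : Coh.IsCoh M) :
    Module.Finite R (Coh.HH (CohB1.ProjSpace n R) M q) := by
  obtain ⟨r, d, φ, hφ⟩ := Groth.Agent.S0846.result (CohB1.polyGrading n R) M hM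
  let L : Fin r → (CohB1.ProjSpace n R).Modules := fun j => Twist.twistProjSpace n R (d j)
  let φ₀ : (∐ L : (CohB1.ProjSpace n R).Modules) ⟶ M := φ
  haveI : Epi φ₀ := hφ
  let φ' : (⨁ L : (CohB1.ProjSpace n R).Modules) ⟶ M := (biproduct.isoCoproduct L).hom ≫ φ₀
  haveI : Epi φ' := epi_comp _ _
  have hE : Coh.IsCoh (⨁ L : (CohB1.ProjSpace n R).Modules) :=
    isCoh_biproduct L fun j => isCoh_twist n R (d j)
  have hK : Coh.IsCoh (kernel φ') := (Groth.Agent.S9514.result _ hE hM φ').1
  let S : ShortComplex (CohB1.ProjSpace n R).Modules :=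
    ShortComplex.mk (kernel.ι φ') φ' (kernel.condition φ')
  have hS : S.ShortExact :=
    { exact := ShortComplex.exact_kernel φ'
      mono_f := inferInstanceAs (Mono (kernel.ι φ'))
      epi_g := inferInstanceAs (Epi φ') }
  haveI h2 : Module.Finite R (Coh.HH (CohB1.ProjSpace n R) S.X₂ q) :=
    module_finite_HH_biproduct R L q fun j => module_finite_HH_twist n R (d j) q
  haveI h1 : Module.Finite R (Coh.HH (CohB1.ProjSpace n R) S.X₁ (q + 1)) := ih _ hK
  haveI : IsNoetherian R (Coh.HH (CohB1.ProjSpace n R) S.X₂ q) :=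
    isNoetherian_of_isNoetherianRing_of_finite R _
  haveI : IsNoetherian R (Coh.HH (CohB1.ProjSpace n R) S.X₁ (q + 1)) :=
    isNoetherian_of_isNoetherianRing_of_finite R _
  have hex := exact₃ R S hS q
  haveI : IsNoetherian R (Coh.HH (CohB1.ProjSpace n R) S.X₃ q) :=
    isNoetherian_of_range_eq_ker (Canon.HHlin R S.g q) (δlin R S hS q)
      hex.linearMap_ker_eq.symm
  exact Module.IsNoetherian.finite R (Coh.HH (CohB1.ProjSpace n R) M q)

/-- **Finiteness of coherent cohomology on `P^n_R`** for Noetherian `R`. -/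
theorem module_finite_HH_of_isCoh (M : (CohB1.ProjSpace n R).Modules) (hM : Coh.IsCoh M)
    (q : ℕ) : Module.Finite R (Coh.HH (CohB1.ProjSpace n R) M q) := by
  suffices h : ∀ (k q : ℕ), n + 1 ≤ q + k → ∀ M : (CohB1.ProjSpace n R).Modules, Coh.IsCoh M →
      Module.Finite R (Coh.HH (CohB1.ProjSpace n R) M q) from
    h (n + 1) q (by omega) M hM
  intro k
  induction k with
  | zero =>
    intro q hq M hM
    haveI : Coh.IsQCoh M := hM.1
    haveI := Groth.Agent.S0022.result n R M q (by omega)
    infer_instance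
  | succ k ih =>
    intro q hq M hM
    exact module_finite_HH_step n R q (fun M' hM' => ih (q + 1) (by omega) M' hM') M hM

end Groth.Agent.Lib.Lead.Pn
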