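import Groth.Agent.Lib.Helper29.Twist3
import Groth.Agent.Lib.Helper22.Cech.AffineVanishing

/-!
# `O(0) ≅ O` on `Proj`, and invariance of cohomology under isomorphisms
-/

set_option autoImplicit false

universe u

open CategoryTheory CategoryTheory.Limits AlgebraicGeometry Opposite TopologicalSpace

namespace Groth.Agent.Lib.Lead.Pn

open Groth.Agent.Lib.Helper29.QCoh

section
variable {R A : Type u} [CommRing R] [CommRing A] [Algebra R A] (𝒜 : ℕ → Submodule R A)
  [GradedAlgebra 𝒜]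

/-- `O_X ≅ O(0)` on `Proj`. -/
theorem nonempty_unit_iso_twist_zero : Nonempty (unitM (Proj 𝒜) ≅ Twist.twist 𝒜 0) := by
  let one0 : 𝒜 0 := ⟨1, SetLike.GradedOne.one_mem⟩
  have hdeg : ((0 : ℕ) : ℤ) = ((0 : ℕ) : ℤ) + 0 := by simp
  obtain ⟨φ, -⟩ := exists_iso_of_cocycle (M := unitM (Proj 𝒜)) (N := Twist.twist 𝒜 0)
    (U := fun _ : Unit => (⊤ : (Proj 𝒜).Opens))
    (m := fun _ => toUnit 1)
    (n := fun _ => mkSec 𝒜 0 ⊤ one0 one0 (fun x => one_not_mem x.1) hdeg)
    (fun x => ⟨(), trivial⟩) (fun _ => isTriv_unit ⊤)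
    (fun _ => isTriv_mkSec 𝒜 0 ⊤ one0 one0 (fun x => one_not_mem x.1)
      (fun x => one_not_mem x.1) hdeg)
    (fun _ _ => ⟨1, by rw [one_smul], by rw [one_smul]⟩)
  exact ⟨φ⟩

end

/-- Cohomology is invariant under isomorphisms of modules. -/
theorem subsingleton_HH_of_iso {X : Scheme.{u}} {M N : X.Modules} (e : M ≅ N) (q : ℕ)
    (h : Subsingleton (Coh.HH X M q)) : Subsingleton (Coh.HH X N q) :=
  Groth.Agent.Lib.Helper22.Cech.subsingleton_H_of_iso (X := X.carrier)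
    ((SheafOfModules.toSheaf X.ringCatSheaf).mapIso e.symm) q h

end Groth.Agent.Lib.Lead.Pn
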