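import Groth.Agent.Lib.Lead.TwistExact
import Groth.Agent.Lib.Lead.LinLES.Basic
import Groth.Agent.Lib.Lead.Pn.Vanish
import Groth.Agent.Lib.Lead.Pn.TwistZero
import Groth.Agent.Lib.Helper29.QCohTensor
import Groth.Agent.S0022

/-!
# Twisting short exact sequences on `P^n`
-/

set_option autoImplicit false

universe u

open CategoryTheory CategoryTheory.Limits AlgebraicGeometry Opposite

namespace Groth.Agent.Lib.Lead.Pn

open Groth.Agent.Lib.Helper29.QCoh Groth.Agent.Lib.Lead.TwistExact

variable (n : ℕ) (R : Type u) [CommRing R]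

/-- `F(d) = F ⊗ O(d)` on `P^n_R`. -/
noncomputable abbrev tw (F : (CohB1.ProjSpace n R).Modules) (d : ℤ) :
    (CohB1.ProjSpace n R).Modules :=
  CohB1.tensorMod F (Twist.twistProjSpace n R d)

lemma isInvertible_twistProjSpace (d : ℤ) : PicF.IsInvertible (Twist.twistProjSpace n R d) :=
  twist_isInvertible n R d

lemma isFlat_twistProjSpace (d : ℤ) : FlatMod.IsFlat (Twist.twistProjSpace n R d) :=
  isFlat_of_isInvertible (isInvertible_twistProjSpace n R d)

/-- `O(a) ⊗ O(b) ≅ O(a + b)`. -/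
lemma nonempty_twist_tensor_iso (a b : ℤ) :
    Nonempty (CohB1.tensorMod (Twist.twistProjSpace n R a) (Twist.twistProjSpace n R b) ≅
      Twist.twistProjSpace n R (a + b)) :=
  (twist_invertible_and_tensor (𝒜 := 𝒜 n R) (degree_one_cover n R)).2.1 a b

/-- `F(a)(b) ≅ F(a + b)`. -/
lemma nonempty_tw_tw_iso (F : (CohB1.ProjSpace n R).Modules) (a b : ℤ) :
    Nonempty (tw n R (tw n R F a) b ≅ tw n R F (a + b)) := by
  obtain ⟨e⟩ := nonempty_twist_tensor_iso n R a b
  exact ⟨tensorAssoc F _ _ ≪≫ tensorCongr (Iso.refl F) e⟩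

instance isQuasicoherent_tw (F : (CohB1.ProjSpace n R).Modules) [F.IsQuasicoherent] (d : ℤ) :
    (tw n R F d).IsQuasicoherent := by
  haveI : (Twist.twistProjSpace n R d).IsQuasicoherent := twist_isQuasicoherent n R d
  exact isQuasicoherent_tensorMod F _

/-- The twist of a short exact sequence is short exact. -/
theorem shortExact_map_tw (S : ShortComplex (CohB1.ProjSpace n R).Modules) (hS : S.ShortExact)
    (d : ℤ) : (S.map (tensorRight (Twist.twistProjSpace n R d))).ShortExact :=
  shortExact_map_tensorRight (isFlat_twistProjSpace n R d) S hS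

/-- Vanishing of `H^q` of the third term of a short exact sequence from vanishing of `H^q` of the
middle term and `H^{q+1}` of the first term. -/
theorem subsingleton_HH_X₃ {X : Scheme.{u}} (S : ShortComplex X.Modules) (hS : S.ShortExact)
    (q : ℕ) (h₂ : Subsingleton (Coh.HH X S.X₂ q)) (h₁ : Subsingleton (Coh.HH X S.X₁ (q + 1))) :
    Subsingleton (Coh.HH X S.X₃ q) := by
  refine subsingleton_of_forall_eq 0 fun x₃ => ?_
  have h0 : (Abelian.Ext.comp x₃ (Groth.Agent.Lib.Lead.LinLES.eC S hS) rfl :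
      Coh.HH X S.X₁ (q + 1)) = 0 := Subsingleton.elim _ _
  obtain ⟨x₂, hx₂⟩ := Abelian.Ext.covariant_sequence_exact₃ _
    (Groth.Agent.Lib.Lead.LinLES.abS_shortExact S hS) x₃ rfl h0
  have hx2 : (show Coh.HH X S.X₂ q from x₂) = 0 := Subsingleton.elim _ _
  have hx2' : x₂ = 0 := hx2
  rw [← hx₂, hx2', Abelian.Ext.zero_comp]
  rfl

end Groth.Agent.Lib.Lead.Pn
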