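import Mathlib

/-!
# Computing a homology group of a cochain complex of abelian groups by a functional
-/

set_option autoImplicit false

universe u v

open CategoryTheory CategoryTheory.Limits

namespace Groth.Agent.Lib.Lead.Pn

/-- Two surjections with the same kernel have isomorphic targets, compatibly. -/
lemma exists_addEquiv_of_surjective_of_ker_eq {A : Type*} {T : Type*} {T' : Type*} [AddCommGroup A]
    [AddCommGroup T] [AddCommGroup T'] (a : A →+ T) (a' : A →+ T')
    (ha : Function.Surjective a) (ha' : Function.Surjective a')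
    (hk : ∀ t, a t = 0 ↔ a' t = 0) : ∃ e : T ≃+ T', ∀ t, e (a t) = a' t := by
  have hker : a.ker = a'.ker := by
    ext t
    exact hk t
  refine ⟨(QuotientAddGroup.quotientKerEquivOfSurjective a ha).symm.trans
    ((QuotientAddGroup.quotientAddEquivOfEq hker).trans
      (QuotientAddGroup.quotientKerEquivOfSurjective a' ha')), fun t => ?_⟩
  have h1 : (QuotientAddGroup.quotientKerEquivOfSurjective a ha).symm (a t) =
      (QuotientAddGroup.mk t : A ⧸ a.ker) := by
    rw [AddEquiv.symm_apply_eq]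
    rfl
  rw [AddEquiv.trans_apply, h1]
  rfl

variable (K : CochainComplex AddCommGrpCat.{u} ℕ) (n : ℕ)

lemma exists_cycle_of_d_eq_zero (x : K.X (n + 1)) (hx : K.d (n + 1) (n + 2) x = 0) :
    ∃ z : K.cycles (n + 1), K.iCycles (n + 1) z = x := by
  let k : AddCommGrpCat.of (K.d (n + 1) (n + 2)).hom.ker ⟶ K.X (n + 1) :=
    AddCommGrpCat.ofHom (K.d (n + 1) (n + 2)).hom.ker.subtype
  have hk : k ≫ K.d (n + 1) (n + 2) = 0 := by
    ext ⟨y, hy⟩
    exact hy
  refine ⟨K.liftCycles k (n + 2) (by simp) hk ⟨x, hx⟩, ?_⟩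
  rw [← ConcreteCategory.comp_apply, HomologicalComplex.liftCycles_i]
  rfl

lemma iCycles_injective : Function.Injective (K.iCycles (n + 1)) :=
  (AddCommGrpCat.mono_iff_injective _).1 inferInstance

lemma homologyπ_surjective : Function.Surjective (K.homologyπ (n + 1)) :=
  (AddCommGrpCat.epi_iff_surjective _).1 inferInstance

lemma homologyπ_eq_zero_iff (z : K.cycles (n + 1)) :
    K.homologyπ (n + 1) z = 0 ↔ ∃ y : K.X n, K.toCycles n (n + 1) y = z := by
  constructor
  · intro hz
    have hex : (ShortComplex.mk (K.toCycles n (n + 1)) (K.homologyπ (n + 1))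
        (K.toCycles_comp_homologyπ n (n + 1))).Exact :=
      ShortComplex.exact_of_g_is_cokernel _ (K.homologyIsCokernel n (n + 1) (by simp))
    rw [ShortComplex.ab_exact_iff] at hex
    exact hex z hz
  · rintro ⟨y, rfl⟩
    rw [← ConcreteCategory.comp_apply, K.toCycles_comp_homologyπ]
    rfl

/-- **Homology from a functional.** -/
theorem exists_homology_addEquiv_of_map {T : Type v} [AddCommGroup T] (f : K.X (n + 1) →+ T)
    (h1 : ∀ y : K.X n, f (K.d n (n + 1) y) = 0)
    (h2 : ∀ t : T, ∃ x : K.X (n + 1), K.d (n + 1) (n + 2) x = 0 ∧ f x = t)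
    (h3 : ∀ x : K.X (n + 1), K.d (n + 1) (n + 2) x = 0 → f x = 0 → ∃ y, K.d n (n + 1) y = x) :
    ∃ e : K.homology (n + 1) ≃+ T, ∀ z : K.cycles (n + 1),
      e (K.homologyπ (n + 1) z) = f (K.iCycles (n + 1) z) := by
  let g : K.cycles (n + 1) →+ T := f.comp (K.iCycles (n + 1)).hom
  have hg : ∀ z, g z = f (K.iCycles (n + 1) z) := fun _ => rfl
  have hid : ∀ y : K.X n, K.iCycles (n + 1) (K.toCycles n (n + 1) y) = K.d n (n + 1) y := by
    intro y
    rw [← ConcreteCategory.comp_apply, K.toCycles_i]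
  have hd : ∀ z : K.cycles (n + 1), K.d (n + 1) (n + 2) (K.iCycles (n + 1) z) = 0 := by
    intro z
    rw [← ConcreteCategory.comp_apply, K.iCycles_d]
    rfl
  refine exists_addEquiv_of_surjective_of_ker_eq (K.homologyπ (n + 1)).hom g
    (homologyπ_surjective K n) ?_ ?_
  · intro t
    obtain ⟨x, hx, hfx⟩ := h2 t
    obtain ⟨z, hz⟩ := exists_cycle_of_d_eq_zero K n x hx
    exact ⟨z, by rw [hg, hz, hfx]⟩
  · intro z
    change K.homologyπ (n + 1) z = 0 ↔ g z = 0
    rw [homologyπ_eq_zero_iff, hg]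
    constructor
    · rintro ⟨y, rfl⟩
      rw [hid, h1]
    · intro hz
      obtain ⟨y, hy⟩ := h3 _ (hd z) hz
      refine ⟨y, ?_⟩
      apply iCycles_injective K n
      rw [hid, hy]

/-- Compatibility of `homologyπ` with chain maps, elementwise. -/
lemma homologyMap_homologyπ {K L : CochainComplex AddCommGrpCat.{u} ℕ} (φ : K ⟶ L) (i : ℕ)
    (z : K.cycles i) :
    HomologicalComplex.homologyMap φ i (K.homologyπ i z) =
      L.homologyπ i (HomologicalComplex.cyclesMap φ i z) := by
  rw [← ConcreteCategory.comp_apply, ← ConcreteCategory.comp_apply,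
    HomologicalComplex.homologyπ_naturality]

lemma iCycles_cyclesMap {K L : CochainComplex AddCommGrpCat.{u} ℕ} (φ : K ⟶ L) (i : ℕ)
    (z : K.cycles i) :
    L.iCycles i (HomologicalComplex.cyclesMap φ i z) = φ.f i (K.iCycles i z) := by
  rw [← ConcreteCategory.comp_apply, ← ConcreteCategory.comp_apply,
    HomologicalComplex.cyclesMap_i]

end Groth.Agent.Lib.Lead.Pn
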