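import Mathlib

/-!
# The rank of the module of homogeneous polynomials
-/

set_option autoImplicit false

open MvPolynomial

namespace Groth.Agent.Lib.Lead.Pn

/-- The number of monomials of degree `m` in `r + 1` variables. -/
theorem finrank_homogeneousSubmodule (K : Type*) [CommRing K] [Nontrivial K] (r m : ℕ) :
    Module.finrank K (homogeneousSubmodule (Fin (r + 1)) K m) = Nat.choose (m + r) r := by
  rw [homogeneousSubmodule_eq_finsupp_supported]
  have e := AddMonoidAlgebra.supportedEquivFinsupp (R := K) (S := K)
    {d : Fin (r + 1) →₀ ℕ | d.degree = m}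
  rw [LinearEquiv.finrank_eq e]
  have hs : {d : Fin (r + 1) →₀ ℕ | d.degree = m} =
      ↑((Finset.univ : Finset (Fin (r + 1))).finsuppAntidiag m) := by
    ext d
    simp [Finsupp.degree_eq_sum]
  rw [hs, Module.finrank_finsupp_self]
  simp only [Finset.coe_sort_coe, Nat.card_eq_fintype_card, Fintype.card_coe]
  rw [Finset.card_finsuppAntidiag_nat_eq_choose, Finset.card_univ, Fintype.card_fin]
  have : r + 1 + m - 1 = m + r := by omega
  rw [this, Nat.choose_symm_add]

end Groth.Agent.Lib.Lead.Pn
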