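import Groth.Agent.Lib.Lead.Pn.Laurent

/-!
# Homogeneous polynomials as coefficient functions on negative exponents
-/

set_option autoImplicit false

universe u

open MvPolynomial

namespace Groth.Agent.Lib.Lead.Pn

variable {n : ℕ} {R : Type u} [CommRing R]

/-- The exponents of total degree `d` with all entries negative. -/
def EnegD' (n : ℕ) (d : ℤ) : Set (Fin (n + 1) → ℤ) := {e | ∑ i, e i = d ∧ ∀ i, e i < 0}

lemma EnegD'_finite (n : ℕ) (d : ℤ) : (EnegD' n d).Finite := by
  apply Set.Finite.subset (Set.Finite.pi' fun _ : Fin (n + 1) => Set.finite_Icc (d + n) (-1))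
  intro e he i
  refine ⟨?_, by have := he.2 i; omega⟩
  have h1 : ∑ j, e j = e i + ∑ j ∈ Finset.univ.erase i, e j := by
    rw [Finset.add_sum_erase _ _ (Finset.mem_univ i)]
  have h2 : ∑ j ∈ Finset.univ.erase i, e j ≤ ∑ _j ∈ Finset.univ.erase i, (-1 : ℤ) := by
    apply Finset.sum_le_sum
    intro j _
    have := he.2 j
    omega
  rw [Finset.sum_const, Finset.card_erase_of_mem (Finset.mem_univ i)] at h2
  simp only [Finset.card_univ, Fintype.card_fin, Nat.add_one_sub_one, smul_eq_mul,
    mul_neg, mul_one, nsmul_eq_mul] at h2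
  have h3 := he.1
  omega

variable (n R) in
/-- The coefficient functions supported on the negative exponents of degree `d`. -/
def Ttop' (d : ℤ) : Submodule R ((Fin (n + 1) → ℤ) → R) where
  carrier := {c | ∀ e, c e ≠ 0 → e ∈ EnegD' n d}
  add_mem' := by
    intro a b ha hb e he
    by_cases h : a e = 0
    · apply hb e
      intro h'
      apply he
      rw [Pi.add_apply, h, h', add_zero]
    · exact ha e h
  zero_mem' := by
    intro e he
    exact absurd rfl he
  smul_mem' := by
    intro r a ha e he
    apply ha e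
    intro h'
    apply he
    rw [Pi.smul_apply, h', smul_zero]

/-- Reflection of exponents `e ↦ -1 - e`. -/
def neg1 (e : Fin (n + 1) → ℤ) : Fin (n + 1) → ℤ := fun i => -1 - e i

lemma neg1_neg1 (e : Fin (n + 1) → ℤ) : neg1 (neg1 e) = e := by
  funext i
  unfold neg1
  ring

lemma neg1_injective : Function.Injective (neg1 (n := n)) := fun a b h => by
  rw [← neg1_neg1 a, h, neg1_neg1]

lemma lcD_C_mul' {ι : Type*} [Fintype ι] (r : R) (B : MvPolynomial ι R) (D : ι →₀ ℕ) :
    lcD (C r * B) D = r • lcD B D := by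
  funext e
  by_cases h : ∀ i, 0 ≤ e i + D i
  · rw [Pi.smul_apply, lcD_pos _ _ _ h, lcD_pos _ _ _ h, coeff_C_mul, smul_eq_mul]
  · rw [Pi.smul_apply, lcD_neg _ _ _ h, lcD_neg _ _ _ h, smul_zero]

lemma lcD_smul' {ι : Type*} [Fintype ι] (r : R) (B : MvPolynomial ι R) (D : ι →₀ ℕ) :
    lcD (r • B) D = r • lcD B D := by
  rw [smul_eq_C_mul, lcD_C_mul']

variable (n R) in
/-- Homogeneous polynomials of degree `k` as coefficient functions on negative exponents. -/
noncomputable def polyToTop (k : ℕ) :
    homogeneousSubmodule (Fin (n + 1)) R k →ₗ[R] Ttop' n R (-((n : ℤ) + 1 + k)) where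
  toFun B := ⟨fun e => lcD B.1 0 (neg1 e), by
    intro e he
    have he' : lcD B.1 0 (neg1 e) ≠ 0 := he
    have h1 := (lcD_ne_zero he').1
    have h2 := lcD_degree (k := k) B.2 he'
    constructor
    · simp only [neg1, Finset.sum_sub_distrib, Finset.sum_const, Finset.card_univ,
        Fintype.card_fin, Finsupp.coe_zero, Pi.zero_apply, Nat.cast_zero, Finset.sum_const_zero,
        sub_zero, smul_eq_mul, nsmul_eq_mul] at h2
      push_cast at h2 ⊢
      linarith
    · intro i
      have := h1 i
      simp only [neg1, Finsupp.coe_zero, Pi.zero_apply, Nat.cast_zero, add_zero] at this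
      omega⟩
  map_add' B B' := by
    apply Subtype.ext
    funext e
    change lcD (B.1 + B'.1) 0 (neg1 e) = lcD B.1 0 (neg1 e) + lcD B'.1 0 (neg1 e)
    rw [lcD_add]
    rfl
  map_smul' r B := by
    apply Subtype.ext
    funext e
    change lcD (r • B.1) 0 (neg1 e) = r • lcD B.1 0 (neg1 e)
    rw [lcD_smul']
    rfl

lemma polyToTop_bijective (k : ℕ) : Function.Bijective (polyToTop n R k) := by
  constructor
  · rw [injective_iff_map_eq_zero]
    intro B hB
    apply Subtype.ext
    apply eq_zero_of_lcD_eq_zero B.1 0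
    funext e
    have h1 := congrArg (fun t => t.1 (neg1 e)) hB
    change lcD B.1 0 (neg1 (neg1 e)) = 0 at h1
    rwa [neg1_neg1] at h1
  · intro t
    have hfin : (Function.support fun e => t.1 (neg1 e)).Finite := by
      have h1 : (Function.support t.1).Finite := (EnegD'_finite n _).subset fun e he => t.2 e he
      apply (h1.preimage (neg1_injective.injOn)).subset
      intro e he
      exact he
    have hD : ∀ e, t.1 (neg1 e) ≠ 0 → ∀ i, 0 ≤ e i + ((0 : Fin (n + 1) →₀ ℕ) i : ℤ) := by
      intro e he i
      have := (t.2 _ he).2 i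
      simp only [neg1] at this
      simp only [Finsupp.coe_zero, Pi.zero_apply, Nat.cast_zero, add_zero]
      omega
    have hk : ∀ e, t.1 (neg1 e) ≠ 0 →
        ∑ i, e i + ∑ i, (((0 : Fin (n + 1) →₀ ℕ) i : ℕ) : ℤ) = k := by
      intro e he
      have := (t.2 _ he).1
      simp only [neg1, Finset.sum_sub_distrib, Finset.sum_const, Finset.card_univ,
        Fintype.card_fin, smul_eq_mul, nsmul_eq_mul] at this
      simp only [Finsupp.coe_zero, Pi.zero_apply, Nat.cast_zero, Finset.sum_const_zero, add_zero]
      push_cast at this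
      linarith
    refine ⟨⟨numOf (fun e => t.1 (neg1 e)) hfin 0,
      numOf_isHomogeneous _ hfin 0 hD k hk⟩, ?_⟩
    apply Subtype.ext
    funext e
    change lcD (numOf (fun e => t.1 (neg1 e)) hfin 0) 0 (neg1 e) = t.1 e
    rw [lcD_numOf _ hfin 0 hD]
    change t.1 (neg1 (neg1 e)) = t.1 e
    rw [neg1_neg1]

variable (n R) in
/-- The identification of homogeneous polynomials with coefficient functions. -/
noncomputable def polyTopEquiv (k : ℕ) :
    homogeneousSubmodule (Fin (n + 1)) R k ≃ₗ[R] Ttop' n R (-((n : ℤ) + 1 + k)) :=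
  LinearEquiv.ofBijective (polyToTop n R k) (polyToTop_bijective k)

end Groth.Agent.Lib.Lead.Pn
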