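import Groth.Agent.Lib.Lead.Pn.TopLin
import Groth.Agent.Lib.Lead.Pn.PolyTop
import Groth.Agent.Lib.Lead.Pn.H0
import Groth.Agent.Lib.Lead.NatLeray.Scheme

/-!
# The top cohomology of `O(-n-1-k)` on `P^n_R`
-/

set_option autoImplicit false

universe u

open CategoryTheory CategoryTheory.Limits AlgebraicGeometry Opposite TopologicalSpace MvPolynomial

namespace Groth.Agent.Lib.Lead.Pn

open Groth.Agent.Lib.Helper29.QCoh Groth.Agent.Lib.Helper22.Cech

variable {R : Type u} [CommRing R]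

/-- The action of the base ring on cohomology is induced by the multiplication endomorphisms. -/
lemma smul_HH_eq (m : ℕ) (d : ℤ) (q : ℕ) (r : R)
    (h : Coh.HH (CohB1.ProjSpace (m + 1) R) (Twist.twistProjSpace (m + 1) R d) q) :
    r • h = Sheaf.H.map (rEnd m R d r) q h := rfl

/-- **Top cohomology of `O(d)` on `P^{m+1}_R`**, `R`-linearly. -/
theorem nonempty_top_linearEquiv_succ (m k : ℕ) :
    Nonempty (Coh.HH (CohB1.ProjSpace (m + 1) R)
      (Twist.twistProjSpace (m + 1) R (-(((m + 1 : ℕ) : ℤ) + 1 + k))) (m + 1) ≃ₗ[R]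
        ↥(homogeneousSubmodule (Fin (m + 1 + 1)) R k)) := by
  set d : ℤ := -(((m + 1 : ℕ) : ℤ) + 1 + k) with hd
  obtain ⟨θ, hθ⟩ := NatLeray.exists_cechH_addEquiv_HH_natural (Proj (𝒜 (m + 1) R))
    (Twist.twist (𝒜 (m + 1) R) d) (stdCov (m + 1) R) (iSup_stdCov (m + 1) R)
    isAffineOpen_iInf_stdCov (m + 1)
  obtain ⟨ε, hε⟩ := exists_top_equiv_smul (m := m) (R := R) (d := d)
  let e₀ : Coh.HH (CohB1.ProjSpace (m + 1) R) (Twist.twistProjSpace (m + 1) R d) (m + 1) ≃+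
      Ttop m R d := (θ.symm : _ ≃+ (KK m R d).homology (m + 1)).trans ε
  have hlin : ∀ (r : R) (h : Coh.HH (CohB1.ProjSpace (m + 1) R)
      (Twist.twistProjSpace (m + 1) R d) (m + 1)), e₀ (r • h) = r • e₀ h := by
    intro r h
    obtain ⟨c, rfl⟩ := θ.surjective h
    rw [smul_HH_eq]
    have h1 := hθ (rEnd m R d r) c
    change e₀ (Sheaf.H.map (rEnd m R d r) (m + 1) (θ c)) = r • e₀ (θ c)
    rw [← h1]
    change ε (θ.symm (θ _)) = r • ε (θ.symm (θ c))
    rw [AddEquiv.symm_apply_apply, AddEquiv.symm_apply_apply]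
    exact hε r c
  let e₁ : Coh.HH (CohB1.ProjSpace (m + 1) R) (Twist.twistProjSpace (m + 1) R d) (m + 1) ≃ₗ[R]
      Ttop m R d := { e₀ with map_smul' := hlin }
  let e₂ : Ttop m R d ≃ₗ[R] Ttop' (m + 1) R d := LinearEquiv.refl R _
  exact ⟨e₁.trans (e₂.trans (polyTopEquiv (m + 1) R k).symm)⟩

end Groth.Agent.Lib.Lead.Pn
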