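import Mathlib

/-!
# Combinatorics of ordered cochains on a simplex relative to its boundary

* `sgnZ σ`: the determinant of the `0`-`1` matrix of a self-map of `Fin m` (the sign of `σ` if it is
  a permutation, `0` otherwise) and the cocycle identity `sum_sgnZ_face`;
* `alt_of_cocycle`: a function on tuples vanishing on non-injective tuples and satisfying the cocycle
  identity is alternating.
-/

set_option autoImplicit false

open Equiv

namespace Groth.Agent.Lib.Lead.Pn

/-- The matrix of a self-map. -/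
def tupMatrix {m : ℕ} (σ : Fin m → Fin m) : Matrix (Fin m) (Fin m) ℤ :=
  fun i j => if σ i = j then 1 else 0

/-- The sign of a tuple. -/
def sgnZ {m : ℕ} (σ : Fin m → Fin m) : ℤ := (tupMatrix σ).det

lemma sgnZ_id {m : ℕ} : sgnZ (id : Fin m → Fin m) = 1 := by
  unfold sgnZ
  have : tupMatrix (id : Fin m → Fin m) = 1 := by
    ext i j
    unfold tupMatrix
    rw [Matrix.one_apply]
    rfl
  rw [this, Matrix.det_one]

lemma sgnZ_eq_zero_of_not_injective {m : ℕ} (σ : Fin m → Fin m) (h : ¬ Function.Injective σ) :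
    sgnZ σ = 0 := by
  unfold Function.Injective at h
  push Not at h
  obtain ⟨a, b, hab, hne⟩ := h
  apply Matrix.det_zero_of_row_eq hne
  funext j
  unfold tupMatrix
  rw [hab]

/-- The cocycle identity for `sgnZ`. -/
lemma sum_sgnZ_face {m : ℕ} (ρ : Fin (m + 1) → Fin m) :
    ∑ k : Fin (m + 1), (-1 : ℤ) ^ (k : ℕ) * sgnZ (ρ ∘ k.succAbove) = 0 := by
  let N : Matrix (Fin (m + 1)) (Fin (m + 1)) ℤ :=
    fun i j => Fin.cases (1 : ℤ) (fun j' => if ρ i = j' then 1 else 0) j
  have h1 := Matrix.det_succ_column_zero N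
  have h2 : N.det = 0 := by
    obtain ⟨a, b, hne, hab⟩ := Fintype.exists_ne_map_eq_of_card_lt ρ (by simp)
    apply Matrix.det_zero_of_row_eq hne
    funext j
    refine Fin.cases ?_ (fun j' => ?_) j
    · rfl
    · change (if ρ a = j' then (1 : ℤ) else 0) = if ρ b = j' then 1 else 0
      rw [hab]
  rw [h2] at h1
  rw [h1]
  refine Finset.sum_congr rfl fun k _ => ?_
  have h3 : N k 0 = 1 := rfl
  rw [h3, mul_one]
  rfl

section alt

variable {n : ℕ} {M : Type*} [AddCommGroup M] (g : (Fin (n + 1) → Fin (n + 1)) → M)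

lemma succAbove_eq_of_lt_or_gt (a : Fin n) (l : Fin (n + 1))
    (h : l.val < a.val ∨ a.val + 1 < l.val) :
    (a.castSucc.castSucc : Fin (n + 2)).succAbove l = (a.succ.succ : Fin (n + 2)).succAbove l := by
  apply Fin.ext
  simp only [Fin.succAbove, Fin.lt_def, Fin.val_castSucc, Fin.val_succ]
  split_ifs <;> simp <;> omega

/-- Adjacent transpositions change the sign. -/
lemma alt_swap_adj
    (h0 : ∀ σ, ¬ Function.Injective σ → g σ = 0)
    (hc : ∀ ρ : Fin (n + 2) → Fin (n + 1),
      ∑ k : Fin (n + 2), (-1 : ℤ) ^ (k : ℕ) • g (ρ ∘ k.succAbove) = 0)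
    (τ : Fin (n + 1) → Fin (n + 1)) (a : Fin n) :
    g (τ ∘ swap a.castSucc a.succ) = - g τ := by
  set p : Fin (n + 2) := a.succ.succ with hp
  set q : Fin (n + 2) := a.castSucc.castSucc with hq
  set ρ : Fin (n + 2) → Fin (n + 1) := Fin.insertNth p (τ a.castSucc) τ with hρ
  have hpq : q ≠ p := by
    intro h
    have := congrArg Fin.val h
    simp [hp, hq] at this
    omega
  have F1 : ρ ∘ p.succAbove = τ := by
    funext l
    exact Fin.insertNth_apply_succAbove _ _ _ _
  have hρp : ρ p = τ a.castSucc := Fin.insertNth_apply_same _ _ _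
  have hqp : p.succAbove a.castSucc = q := by
    apply Fin.ext
    simp [Fin.succAbove, Fin.lt_def, hp, hq]
  have hρq : ρ q = τ a.castSucc := by
    rw [← hqp]
    exact Fin.insertNth_apply_succAbove _ _ _ _
  have F2 : ρ ∘ q.succAbove = τ ∘ swap a.castSucc a.succ := by
    funext l
    simp only [Function.comp_apply]
    by_cases h1 : l = a.succ
    · subst h1
      have : q.succAbove a.succ = p := by
        apply Fin.ext
        simp [Fin.succAbove, Fin.lt_def, hp, hq]
      rw [this, hρp, swap_apply_right]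
    · by_cases h2 : l = a.castSucc
      · subst h2
        have : q.succAbove a.castSucc = p.succAbove a.succ := by
          apply Fin.ext
          simp [Fin.succAbove, Fin.lt_def, hp, hq]
        rw [this, swap_apply_left]
        exact Fin.insertNth_apply_succAbove _ _ _ _
      · rw [swap_apply_of_ne_of_ne h2 h1]
        have h3 : l.val < a.val ∨ a.val + 1 < l.val := by
          have e1 : l.val ≠ a.val + 1 := fun h => h1 (Fin.ext (by simpa using h))
          have e2 : l.val ≠ a.val := fun h => h2 (Fin.ext (by simpa using h))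
          omega
        rw [hq, succAbove_eq_of_lt_or_gt a l h3]
        exact Fin.insertNth_apply_succAbove _ _ _ _
  have F3 : ∀ k : Fin (n + 2), k ≠ q ∧ k ≠ p → (-1 : ℤ) ^ (k : ℕ) • g (ρ ∘ k.succAbove) = 0 := by
    rintro k ⟨hkq, hkp⟩
    rw [h0, smul_zero]
    intro hinj
    obtain ⟨l₁, hl₁⟩ := Fin.exists_succAbove_eq (Ne.symm hkq)
    obtain ⟨l₂, hl₂⟩ := Fin.exists_succAbove_eq (Ne.symm hkp)
    have : l₁ = l₂ := by
      apply hinj
      simp only [Function.comp_apply]
      rw [hl₁, hl₂, hρq, hρp]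
    rw [this, hl₂] at hl₁
    exact hpq hl₁.symm
  have hsum := hc ρ
  rw [Fintype.sum_eq_add q p hpq F3, F1, F2] at hsum
  have hsign : (-1 : ℤ) ^ (p : ℕ) = (-1 : ℤ) ^ (q : ℕ) := by
    have : (p : ℕ) = (q : ℕ) + 2 := by simp [hp, hq]
    rw [this, pow_add]
    norm_num
  rw [hsign, ← smul_add] at hsum
  have h5 : g (τ ∘ swap a.castSucc a.succ) + g τ = 0 := by
    have h6 := congrArg (fun z => (-1 : ℤ) ^ (q : ℕ) • z) hsum
    simp only [smul_smul, smul_zero] at h6
    rw [← mul_pow] at h6
    norm_num at h6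
    exact h6
  exact eq_neg_of_add_eq_zero_left h5

/-- **A cocycle vanishing on degenerate tuples is alternating.** -/
theorem alt_of_cocycle
    (h0 : ∀ σ, ¬ Function.Injective σ → g σ = 0)
    (hc : ∀ ρ : Fin (n + 2) → Fin (n + 1),
      ∑ k : Fin (n + 2), (-1 : ℤ) ^ (k : ℕ) • g (ρ ∘ k.succAbove) = 0)
    (π : Perm (Fin (n + 1))) (τ : Fin (n + 1) → Fin (n + 1)) :
    g (τ ∘ π) = (Perm.sign π : ℤ) • g τ := by
  have hmem : π ∈ Submonoid.closure (Set.range fun i : Fin n => swap i.castSucc i.succ) := by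
    rw [Perm.mclosure_swap_castSucc_succ]
    trivial
  induction hmem using Submonoid.closure_induction generalizing τ with
  | mem π hπ =>
    obtain ⟨a, rfl⟩ := hπ
    rw [alt_swap_adj g h0 hc τ a, Perm.sign_swap (by
      intro h
      have := congrArg Fin.val h
      simp at this)]
    simp
  | one => simp
  | mul π₁ π₂ _ _ ih₁ ih₂ =>
    have : τ ∘ ⇑(π₁ * π₂) = (τ ∘ π₁) ∘ π₂ := by
      funext l
      simp
    rw [this, ih₂, ih₁, Perm.sign_mul, smul_smul]
    congr 1
    push_cast
    ring

end alt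

end Groth.Agent.Lib.Lead.Pn
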