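import Groth.Agent.Lib.Helper22.Cech.Top

/-!
# Čech acyclicity from a coefficient embedding

Let `P` be a presheaf of abelian groups on a space `X`, `U : ι → Opens X` a finite family of opens and
`W` an open contained in all `U i`.  Suppose the sections of `P` over `W` embed into functions
`E → M` ("coefficients"), in such a way that the image of the sections over `U_σ` consists exactly of
the finitely supported coefficient functions supported in a set `T (range σ)`.  If every exponent
`e` has an index `j e` that can be removed (`e ∈ T (insert (j e) S) → e ∈ T S`), then the Čech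
complex of `P` for `U` is acyclic in the corresponding positive degree (cone construction,
exponent by exponent).
-/

set_option autoImplicit false

universe u v w

open CategoryTheory CategoryTheory.Limits Opposite TopologicalSpace

namespace Groth.Agent.Lib.Lead.Pn

open Groth.Agent.Lib.Helper22.Cech

variable {X : TopCat.{u}} (P : (Opens X)ᵒᵖ ⥤ AddCommGrpCat.{u}) {ι : Type u} (U : ι → Opens X)
  (W : Opens X) (hW : ∀ i, W ≤ U i) {E : Type v} {M : Type w} [AddCommGroup M]
  (Φ : P.obj (op W) →+ (E → M))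

include hW in
/-- `W ≤ U_σ`. -/
lemma W_le_Uσ {n : ℕ} (σ : Fin (n + 1) → ι) : W ≤ Uσ U σ := le_Uσ U σ fun j => hW (σ j)

/-- The coefficient map on sections over `U_σ`. -/
noncomputable def Φσ {n : ℕ} (σ : Fin (n + 1) → ι) : P.obj (op (Uσ U σ)) →+ (E → M) :=
  Φ.comp (rsp P (W_le_Uσ U W hW σ)).hom

lemma Φσ_apply {n : ℕ} (σ : Fin (n + 1) → ι) (s : P.obj (op (Uσ U σ))) :
    Φσ P U W hW Φ σ s = Φ (rsp P (W_le_Uσ U W hW σ) s) := rfl

lemma Φσ_face {n : ℕ} (σ : Fin (n + 2) → ι) (k : Fin (n + 2))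
    (s : P.obj (op (Uσ U (σ ∘ k.succAbove)))) :
    Φσ P U W hW Φ σ (P.map (face U σ k).op s) = Φσ P U W hW Φ (σ ∘ k.succAbove) s := by
  rw [Φσ_apply, Φσ_apply, map_eq_rsp, rsp_rsp]

/-- The coefficients of the differential of a cochain. -/
lemma Φσ_d {n : ℕ} (x : (CK U P).X n) (σ : Fin (n + 2) → ι) :
    Φσ P U W hW Φ σ (proj U P (n + 1) σ ((CK U P).d n (n + 1) x)) =
      ∑ k : Fin (n + 2), (-1 : ℤ) ^ (k : ℕ) •
        Φσ P U W hW Φ (σ ∘ k.succAbove) (proj U P n (σ ∘ k.succAbove) x) := by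
  rw [proj_d, map_sum]
  refine Finset.sum_congr rfl fun k _ => ?_
  rw [map_zsmul, Φσ_face]

lemma cons_comp_succAbove_zero' {n : ℕ} (i : ι) (σ : Fin (n + 1) → ι) :
    (Fin.cons i σ : Fin (n + 2) → ι) ∘ (0 : Fin (n + 2)).succAbove = σ := by
  funext j
  simp [Fin.succAbove_zero]

lemma cons_comp_succAbove_succ' {n : ℕ} (i : ι) (σ : Fin (n + 2) → ι) (k : Fin (n + 2)) :
    (Fin.cons i σ : Fin (n + 3) → ι) ∘ k.succ.succAbove =
      (Fin.cons i (σ ∘ k.succAbove) : Fin (n + 2) → ι) := by
  funext l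
  refine Fin.cases ?_ (fun l' => ?_) l
  · simp
  · simp

lemma range_cons' {n : ℕ} (i : ι) (τ : Fin (n + 1) → ι) :
    Set.range (Fin.cons i τ : Fin (n + 2) → ι) = insert i (Set.range τ) := by
  ext a
  constructor
  · rintro ⟨l, rfl⟩
    refine Fin.cases ?_ (fun l' => ?_) l
    · simp
    · simp
  · rintro (rfl | ⟨l, rfl⟩)
    · exact ⟨0, by simp⟩
    · exact ⟨l.succ, by simp⟩

variable [Finite ι]

/-- **Primitive of a cocycle from a coefficient embedding**, for one cocycle `x`: it suffices that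
the removal condition holds on the coefficients of `x`. -/
theorem exists_primitive_of_coeff (T : Set ι → Set E) (q : ℕ)
    (hinj : ∀ (σ : Fin (q + 2) → ι) (s : P.obj (op (Uσ U σ))), Φσ P U W hW Φ σ s = 0 → s = 0)
    (hsupp : ∀ (σ : Fin (q + 2) → ι) (s : P.obj (op (Uσ U σ))),
      (Function.support (Φσ P U W hW Φ σ s)).Finite ∧
        Function.support (Φσ P U W hW Φ σ s) ⊆ T (Set.range σ))
    (himg : ∀ (τ : Fin (q + 1) → ι) (c : E → M), (Function.support c).Finite →
      Function.support c ⊆ T (Set.range τ) → ∃ s : P.obj (op (Uσ U τ)), Φσ P U W hW Φ τ s = c)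
    (j : E → ι) (x : (CK U P).X (q + 1)) (hx : (CK U P).d (q + 1) (q + 2) x = 0)
    (hj : ∀ (τ : Fin (q + 1) → ι) (e : E),
      Φσ P U W hW Φ (Fin.cons (j e) τ) (proj U P (q + 1) (Fin.cons (j e) τ) x) e ≠ 0 →
        e ∈ T (Set.range τ)) :
    ∃ y : (CK U P).X q, (CK U P).d q (q + 1) y = x := by
  -- the coefficient functions of the components of `x`
  let c : (Fin (q + 2) → ι) → (E → M) := fun σ => Φσ P U W hW Φ σ (proj U P (q + 1) σ x)
  -- the cocycle identity on coefficients
  have hcoc : ∀ (ρ : Fin (q + 3) → ι), ∑ k : Fin (q + 3), (-1 : ℤ) ^ (k : ℕ) • c (ρ ∘ k.succAbove) = 0 := by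
    intro ρ
    have := Φσ_d P U W hW Φ x ρ
    rw [hx] at this
    rw [← this]
    have h0 : proj U P (q + 2) ρ (0 : (CK U P).X (q + 2)) = 0 := map_zero _
    rw [h0, map_zero]
  -- the coefficients of the primitive
  let yc : (Fin (q + 1) → ι) → (E → M) := fun τ e => c (Fin.cons (j e) τ) e
  have hyfin : ∀ τ, (Function.support (yc τ)).Finite := by
    intro τ
    haveI := Fintype.ofFinite ι
    apply Set.Finite.subset (Set.finite_iUnion fun i : ι =>
      (hsupp (Fin.cons i τ) (proj U P (q + 1) (Fin.cons i τ) x)).1)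
    intro e he
    rw [Set.mem_iUnion]
    exact ⟨j e, he⟩
  have hysupp : ∀ τ, Function.support (yc τ) ⊆ T (Set.range τ) := by
    intro τ e he
    exact hj τ e he
  choose s hs using fun τ => himg τ (yc τ) (hyfin τ) (hysupp τ)
  refine ⟨mk U P s, ?_⟩
  apply ext_proj
  intro σ
  have hsub : proj U P (q + 1) σ ((CK U P).d q (q + 1) (mk U P s)) - proj U P (q + 1) σ x = 0 := by
    apply hinj σ
    rw [map_sub, Φσ_d, sub_eq_zero]
    funext e
    rw [Finset.sum_apply]
    have h1 := congrFun (hcoc (Fin.cons (j e) σ)) e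
    rw [Finset.sum_apply, Fin.sum_univ_succ] at h1
    simp only [Fin.val_zero, pow_zero, one_smul, Pi.smul_apply, Fin.val_succ, pow_succ,
      mul_neg, mul_one, neg_smul, Finset.sum_neg_distrib, Pi.zero_apply] at h1
    rw [cons_comp_succAbove_zero'] at h1
    have h2 : c σ e = ∑ k : Fin (q + 2), (-1 : ℤ) ^ (k : ℕ) • c (Fin.cons (j e) σ ∘ k.succ.succAbove) e :=
      eq_of_sub_eq_zero (by rw [sub_eq_add_neg]; exact h1)
    change _ = c σ e
    rw [h2]
    refine Finset.sum_congr rfl fun k _ => ?_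
    rw [Pi.smul_apply, proj_mk, hs, cons_comp_succAbove_succ']
  exact eq_of_sub_eq_zero hsub

/-- **Acyclicity from a coefficient embedding.** -/
theorem isZero_homology_succ_of_coeff (T : Set ι → Set E) (q : ℕ)
    (hinj : ∀ (σ : Fin (q + 2) → ι) (s : P.obj (op (Uσ U σ))), Φσ P U W hW Φ σ s = 0 → s = 0)
    (hsupp : ∀ (σ : Fin (q + 2) → ι) (s : P.obj (op (Uσ U σ))),
      (Function.support (Φσ P U W hW Φ σ s)).Finite ∧
        Function.support (Φσ P U W hW Φ σ s) ⊆ T (Set.range σ))
    (himg : ∀ (τ : Fin (q + 1) → ι) (c : E → M), (Function.support c).Finite →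
      Function.support c ⊆ T (Set.range τ) → ∃ s : P.obj (op (Uσ U τ)), Φσ P U W hW Φ τ s = c)
    (j : E → ι)
    (hj : ∀ (τ : Fin (q + 1) → ι) (e : E), e ∈ T (insert (j e) (Set.range τ)) →
      e ∈ T (Set.range τ)) :
    IsZero ((CK U P).homology (q + 1)) := by
  rw [isZero_homology_succ_iff]
  intro x hx
  refine exists_primitive_of_coeff P U W hW Φ T q hinj hsupp himg j x hx ?_
  intro τ e he
  apply hj τ e
  have := (hsupp (Fin.cons (j e) τ) (proj U P (q + 1) _ x)).2 he
  rwa [range_cons'] at this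

end Groth.Agent.Lib.Lead.Pn
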