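import Groth.Agent.Lib.Lead.Pn.Sections
import Groth.Agent.Lib.Lead.Pn.CechCoeff

/-!
# The Laurent coefficient map on sections of `O(d)` over the intersection of the standard opens
-/

set_option autoImplicit false

universe u

open CategoryTheory CategoryTheory.Limits AlgebraicGeometry Opposite TopologicalSpace MvPolynomial

namespace Groth.Agent.Lib.Lead.Pn

open Groth.Agent.Lib.Helper29.QCoh

variable {n : ℕ} {R : Type u} [CommRing R] (d : ℤ)

/-- A representation of a section with degree bookkeeping. -/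
structure Rep {V : (Proj (𝒜 n R)).Opens} (s : Γ(Twist.twist (𝒜 n R) d, V)) where
  /-- numerator -/
  B : MvPolynomial (Fin (n + 1)) R
  /-- denominator exponent -/
  D : Fin (n + 1) →₀ ℕ
  /-- degree of the numerator -/
  k : ℕ
  hB : B ∈ 𝒜 n R k
  hk : (k : ℤ) = D.degree + d
  h : IsRep d s B D

variable {d}

lemma nonempty_rep_W (s : Γ(Twist.twist (𝒜 n R) d, Wopen n R)) : Nonempty (Rep d s) := by
  obtain ⟨N, k, B, hB, hk, h⟩ := exists_isRep (d := d) (ones (n := n)) 0
    (by rw [ones_support]; exact Finset.mem_univ _) s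
  refine ⟨⟨B, N • ones, k, hB, ?_, h⟩⟩
  rw [hk, map_nsmul, smul_eq_mul]
  push_cast
  ring

/-- The Laurent coefficients of a section over `W`. -/
noncomputable def coeffW (s : Γ(Twist.twist (𝒜 n R) d, Wopen n R)) : (Fin (n + 1) → ℤ) → R :=
  lcD (nonempty_rep_W s).some.B (nonempty_rep_W s).some.D

lemma coeffW_eq {s : Γ(Twist.twist (𝒜 n R) d, Wopen n R)} (r : Rep d s) :
    coeffW s = lcD r.B r.D := by
  unfold coeffW
  set r' := (nonempty_rep_W s).some
  apply lcD_eq_of_mul_eq
  have hk : r'.k + r.D.degree = r.k + r'.D.degree := by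
    have h1 := r.hk
    have h2 := r'.hk
    omega
  exact IsRep.cross_eq r'.hB r.hB hk r'.h r.h

/-- Sum of representations. -/
noncomputable def Rep.add {V : (Proj (𝒜 n R)).Opens} {s s' : Γ(Twist.twist (𝒜 n R) d, V)}
    (r : Rep d s) (r' : Rep d s') : Rep d (s + s') where
  B := mon r'.D * r.B + mon r.D * r'.B
  D := r.D + r'.D
  k := r'.D.degree + r.k
  hB := by
    apply Submodule.add_mem
    · exact SetLike.mul_mem_graded (mon_mem r'.D) r.hB
    · have h1 := r.hk
      have h2 := r'.hk
      have : r'.D.degree + r.k = r.D.degree + r'.k := by omega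
      rw [this]
      exact SetLike.mul_mem_graded (mon_mem r.D) r'.hB
  hk := by
    have h1 := r.hk
    rw [map_add]
    push_cast
    omega
  h := r.h.add r'.h

lemma coeffW_add (s s' : Γ(Twist.twist (𝒜 n R) d, Wopen n R)) :
    coeffW (s + s') = coeffW s + coeffW s' := by
  obtain ⟨r⟩ := nonempty_rep_W s
  obtain ⟨r'⟩ := nonempty_rep_W s'
  rw [coeffW_eq (r.add r'), coeffW_eq r, coeffW_eq r']
  change lcD (mon r'.D * r.B + mon r.D * r'.B) (r.D + r'.D) = _
  rw [lcD_add, lcD_monomial_mul, add_comm r.D r'.D, lcD_monomial_mul]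

variable (n R d) in
/-- The coefficient map as an additive map. -/
noncomputable def coeffWHom : Γ(Twist.twist (𝒜 n R) d, Wopen n R) →+ ((Fin (n + 1) → ℤ) → R) :=
  AddMonoidHom.mk' coeffW coeffW_add

/-- The indicator exponent of a finite set of indices. -/
noncomputable def indD (S : Finset (Fin (n + 1))) : Fin (n + 1) →₀ ℕ :=
  Finsupp.equivFunOnFinite.symm fun i => if i ∈ S then 1 else 0

lemma indD_apply (S : Finset (Fin (n + 1))) (i : Fin (n + 1)) :
    indD S i = if i ∈ S then 1 else 0 := rfl

lemma indD_support (S : Finset (Fin (n + 1))) : (indD S).support = S := by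
  ext i
  rw [Finsupp.mem_support_iff, indD_apply]
  by_cases h : i ∈ S <;> simp [h]

end Groth.Agent.Lib.Lead.Pn
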