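import Groth.Agent.Lib.Lead.Pn.Coeff

/-!
# The standard cover of projective space and the Čech acyclicity of `O(d)`
-/

set_option autoImplicit false

universe u

open CategoryTheory CategoryTheory.Limits AlgebraicGeometry Opposite TopologicalSpace MvPolynomial

namespace Groth.Agent.Lib.Lead.Pn

open Groth.Agent.Lib.Helper29.QCoh Groth.Agent.Lib.Helper22.Cech

variable {n : ℕ} {R : Type u} [CommRing R] {d : ℤ}

variable (n R) in
/-- The standard cover, indexed in the universe of `R`. -/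
noncomputable def stdCov : ULift.{u} (Fin (n + 1)) → (Proj (𝒜 n R)).Opens := fun i => stdU i.down

lemma Wopen_le_stdCov (i : ULift.{u} (Fin (n + 1))) : Wopen n R ≤ stdCov n R i :=
  basicOpen_mon_le _ i.down (by rw [ones_support]; exact Finset.mem_univ _)

/-- The set of indices of a tuple. -/
noncomputable def idxSet {q : ℕ} (σ : Fin (q + 1) → ULift.{u} (Fin (n + 1))) : Finset (Fin (n + 1)) :=
  Finset.univ.image fun k => (σ k).down

lemma mem_idxSet {q : ℕ} (σ : Fin (q + 1) → ULift.{u} (Fin (n + 1))) (i : Fin (n + 1)) :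
    i ∈ idxSet σ ↔ ULift.up i ∈ Set.range σ := by
  unfold idxSet
  rw [Finset.mem_image]
  constructor
  · rintro ⟨k, -, rfl⟩
    exact ⟨k, rfl⟩
  · rintro ⟨k, hk⟩
    exact ⟨k, Finset.mem_univ _, by rw [hk]⟩

/-- The exponent of the product of the variables of a tuple. -/
noncomputable def Dσ {q : ℕ} (σ : Fin (q + 1) → ULift.{u} (Fin (n + 1))) : Fin (n + 1) →₀ ℕ :=
  indD (idxSet σ)

/-- The intersection of the opens of a tuple. -/
noncomputable abbrev Us {q : ℕ} (σ : Fin (q + 1) → ULift.{u} (Fin (n + 1))) : (Proj (𝒜 n R)).Opens :=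
  Uσ (stdCov n R) σ

lemma mem_Uσ_iff {q : ℕ} (σ : Fin (q + 1) → ULift.{u} (Fin (n + 1))) (x : Proj (𝒜 n R)) :
    x ∈ Us (R := R) σ ↔ (mon (Dσ σ) : MvPolynomial (Fin (n + 1)) R) ∉ x.asHomogeneousIdeal := by
  constructor
  · intro h
    rw [mon_mem_iff]
    unfold Dσ
    rw [indD_support]
    rintro ⟨i, hi, hX⟩
    rw [mem_idxSet] at hi
    obtain ⟨k, hk⟩ := hi
    have h1 : x ∈ stdCov n R (σ k) := Uσ_le (stdCov n R) σ k h
    unfold stdCov at h1
    rw [mem_stdU, hk] at h1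
    exact h1 hX
  · intro h
    have hle : Proj.basicOpen (𝒜 n R) (mon (Dσ σ)) ≤ Us (R := R) σ := by
      apply le_Uσ
      intro j
      apply basicOpen_mon_le
      unfold Dσ
      rw [indD_support, mem_idxSet]
      exact ⟨j, rfl⟩
    exact hle ((Proj.mem_basicOpen (𝒜 n R) _ x).mpr h)

lemma mon_smul_not_mem {q : ℕ} (σ : Fin (q + 1) → ULift.{u} (Fin (n + 1))) (N : ℕ)
    (x : Us (R := R) σ) :
    (mon (N • Dσ σ) : MvPolynomial (Fin (n + 1)) R) ∉ x.1.asHomogeneousIdeal := by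
  rw [mon_smul]
  exact pow_not_mem_of_not_mem ((mem_Uσ_iff σ x.1).mp x.2) N

lemma Dσ_support_nonempty {q : ℕ} (σ : Fin (q + 1) → ULift.{u} (Fin (n + 1))) :
    (σ 0).down ∈ (Dσ σ).support := by
  unfold Dσ
  rw [indD_support, mem_idxSet]
  exact ⟨0, rfl⟩

/-- Every section over `U_σ` is a fraction with denominator a power of the product of the
variables of `σ`. -/
lemma nonempty_rep_Uσ {q : ℕ} (σ : Fin (q + 1) → ULift.{u} (Fin (n + 1)))
    (s : Γ(Twist.twist (𝒜 n R) d, Us (R := R) σ)) :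
    ∃ (N : ℕ) (r : Rep d s), r.D = N • Dσ σ := by
  have hle : Proj.basicOpen (𝒜 n R) (mon (Dσ σ)) ≤ Us (R := R) σ := by
    intro x hx
    exact (mem_Uσ_iff σ x).mpr ((Proj.mem_basicOpen (𝒜 n R) _ x).mp hx)
  obtain ⟨N, k, B, hB, hk, h⟩ := exists_isRep (d := d) (Dσ σ) _ (Dσ_support_nonempty σ)
    (Groth.Agent.Lib.Helper29.QCoh.res (Twist.twist (𝒜 n R) d) hle s)
  refine ⟨N, ⟨B, N • Dσ σ, k, hB, ?_, ?_⟩, rfl⟩
  · rw [hk, map_nsmul, smul_eq_mul]
    push_cast
    ring
  · intro x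
    have hx : x.1 ∈ Proj.basicOpen (𝒜 n R) (mon (Dσ σ)) :=
      (Proj.mem_basicOpen (𝒜 n R) _ x.1).mpr ((mem_Uσ_iff σ x.1).mp x.2)
    exact h ⟨x.1, hx⟩

/-- Restriction of a representation. -/
noncomputable def Rep.res {V V' : (Proj (𝒜 n R)).Opens} {s : Γ(Twist.twist (𝒜 n R) d, V)}
    (r : Rep d s) (hV : V' ≤ V) :
    Rep d (Groth.Agent.Lib.Helper29.QCoh.res (Twist.twist (𝒜 n R) d) hV s) where
  B := r.B
  D := r.D
  k := r.k
  hB := r.hB
  hk := r.hk
  h := r.h.res hV

variable (n R d) in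
/-- The presheaf of abelian groups of `O(d)`. -/
noncomputable abbrev Pd : (Opens (Proj (𝒜 n R)))ᵒᵖ ⥤ AddCommGrpCat.{u} :=
  (Twist.twist (𝒜 n R) d).presheaf

variable (n R d) in
/-- The coefficient maps on the sections over `U_σ`. -/
noncomputable abbrev Φs {q : ℕ} (σ : Fin (q + 1) → ULift.{u} (Fin (n + 1))) :
    Γ(Twist.twist (𝒜 n R) d, Us (R := R) σ) →+ ((Fin (n + 1) → ℤ) → R) :=
  Φσ (Pd n R d) (stdCov n R) (Wopen n R) Wopen_le_stdCov (coeffWHom n R d) σ

lemma Φs_eq {q : ℕ} (σ : Fin (q + 1) → ULift.{u} (Fin (n + 1)))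
    {s : Γ(Twist.twist (𝒜 n R) d, Us (R := R) σ)} (r : Rep d s) :
    Φs n R d σ s = lcD r.B r.D := by
  have h := coeffW_eq (r.res (W_le_Uσ (stdCov n R) (Wopen n R) Wopen_le_stdCov σ))
  exact h

/-- The exponent sets. -/
def Tset (n : ℕ) (d : ℤ) (S : Set (ULift.{u} (Fin (n + 1)))) : Set (Fin (n + 1) → ℤ) :=
  {e | ∑ i, e i = d ∧ ∀ i, ULift.up i ∉ S → 0 ≤ e i}

lemma Dσ_apply_of_not_mem {q : ℕ} (σ : Fin (q + 1) → ULift.{u} (Fin (n + 1))) (i : Fin (n + 1))
    (hi : ULift.up i ∉ Set.range σ) : Dσ σ i = 0 := by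
  unfold Dσ
  rw [indD_apply, if_neg]
  rwa [mem_idxSet]

lemma Dσ_apply_of_mem {q : ℕ} (σ : Fin (q + 1) → ULift.{u} (Fin (n + 1))) (i : Fin (n + 1))
    (hi : ULift.up i ∈ Set.range σ) : Dσ σ i = 1 := by
  unfold Dσ
  rw [indD_apply, if_pos]
  rwa [mem_idxSet]

lemma Φs_support {q : ℕ} (σ : Fin (q + 1) → ULift.{u} (Fin (n + 1)))
    (s : Γ(Twist.twist (𝒜 n R) d, Us (R := R) σ)) :
    (Function.support (Φs n R d σ s)).Finite ∧
      Function.support (Φs n R d σ s) ⊆ Tset n d (Set.range σ) := by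
  obtain ⟨N, r, hr⟩ := nonempty_rep_Uσ σ s
  rw [Φs_eq σ r]
  refine ⟨lcD_support_finite _ _, ?_⟩
  intro e he
  have he' : lcD r.B r.D e ≠ 0 := he
  refine ⟨?_, ?_⟩
  · have h1 := lcD_degree (k := r.k) r.hB he'
    have h2 := r.hk
    rw [Finsupp.degree_eq_sum] at h2
    push_cast at h2
    rw [h1, h2]
    ring
  · intro i hi
    have h1 := (lcD_ne_zero he').1 i
    rw [hr, Finsupp.smul_apply, Dσ_apply_of_not_mem σ i hi] at h1
    simpa using h1

lemma Φs_injective {q : ℕ} (σ : Fin (q + 1) → ULift.{u} (Fin (n + 1)))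
    (s : Γ(Twist.twist (𝒜 n R) d, Us (R := R) σ)) (h : Φs n R d σ s = 0) : s = 0 := by
  obtain ⟨N, r, hr⟩ := nonempty_rep_Uσ σ s
  rw [Φs_eq σ r] at h
  have hB := eq_zero_of_lcD_eq_zero _ _ h
  have h1 := r.h
  rw [hB] at h1
  apply h1.eq_zero
  intro x
  rw [hr]
  exact mon_smul_not_mem σ N x

lemma Φs_surjective {q : ℕ} (σ : Fin (q + 1) → ULift.{u} (Fin (n + 1)))
    (c : (Fin (n + 1) → ℤ) → R) (hc : (Function.support c).Finite)
    (hT : Function.support c ⊆ Tset n d (Set.range σ)) :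
    ∃ s : Γ(Twist.twist (𝒜 n R) d, Us (R := R) σ), Φs n R d σ s = c := by
  classical
  by_cases hc0 : c = 0
  · exact ⟨0, by rw [map_zero, hc0]⟩
  obtain ⟨e₀, he₀⟩ : ∃ e₀, c e₀ ≠ 0 := by
    by_contra hcon
    push Not at hcon
    exact hc0 (funext hcon)
  -- the bound
  let N : ℕ := ∑ e ∈ hc.toFinset, ∑ i, (-(e i)).toNat
  have hN : ∀ e, c e ≠ 0 → ∀ i, -(e i) ≤ N := by
    intro e he i
    have h1 : (-(e i)).toNat ≤ ∑ i, (-(e i)).toNat :=
      Finset.single_le_sum (f := fun i => (-(e i)).toNat) (fun _ _ => Nat.zero_le _)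
        (Finset.mem_univ i)
    have h2 : ∑ i, (-(e i)).toNat ≤ N :=
      Finset.single_le_sum (f := fun e : Fin (n + 1) → ℤ => ∑ i, (-(e i)).toNat)
        (fun _ _ => Nat.zero_le _) (hc.mem_toFinset.mpr he)
    have h3 := Int.self_le_toNat (-(e i))
    have h4 : ((-(e i)).toNat : ℤ) ≤ N := by exact_mod_cast h1.trans h2
    omega
  set D : Fin (n + 1) →₀ ℕ := N • Dσ σ with hDdef
  have hD : ∀ e, c e ≠ 0 → ∀ i, 0 ≤ e i + D i := by
    intro e he i
    by_cases hi : ULift.up i ∈ Set.range σ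
    · rw [hDdef, Finsupp.smul_apply, Dσ_apply_of_mem σ i hi]
      have := hN e he i
      simp only [smul_eq_mul, mul_one]
      omega
    · rw [hDdef, Finsupp.smul_apply, Dσ_apply_of_not_mem σ i hi]
      have := (hT he).2 i hi
      simpa using this
  have hsum : ∀ e, c e ≠ 0 → ∑ i, e i + ∑ i, (D i : ℤ) = (D.degree : ℤ) + d := by
    intro e he
    rw [(hT he).1, Finsupp.degree_eq_sum]
    push_cast
    ring
  have hnonneg : 0 ≤ (D.degree : ℤ) + d := by
    rw [← hsum e₀ he₀, ← Finset.sum_add_distrib]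
    exact Finset.sum_nonneg fun i _ => hD e₀ he₀ i
  set k : ℕ := ((D.degree : ℤ) + d).toNat with hk
  have hkk : (k : ℤ) = D.degree + d := Int.toNat_of_nonneg hnonneg
  have hB : numOf c hc D ∈ 𝒜 n R k := by
    apply numOf_isHomogeneous c hc D hD k
    intro e he
    rw [hsum e he, hkk]
  have hV : ∀ x : Us (R := R) σ, (mon D : MvPolynomial (Fin (n + 1)) R) ∉ x.1.asHomogeneousIdeal :=
    fun x => mon_smul_not_mem σ N x
  refine ⟨fracSec _ ⟨numOf c hc D, hB⟩ D hV hkk, ?_⟩
  rw [Φs_eq σ (⟨numOf c hc D, D, k, hB, hkk, isRep_fracSec _ _ _ _ _⟩ :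
    Rep d (fracSec (Us (R := R) σ) ⟨numOf c hc D, hB⟩ D hV hkk))]
  exact lcD_numOf c hc D hD

/-- The removable index of an exponent. -/
noncomputable def jIdx (n : ℕ) (e : Fin (n + 1) → ℤ) : ULift.{u} (Fin (n + 1)) :=
  open Classical in if h : ∃ i, 0 ≤ e i then ULift.up h.choose else ULift.up 0

lemma jIdx_spec' (e : Fin (n + 1) → ℤ) (hex : ∃ i, 0 ≤ e i) (S : Set (ULift.{u} (Fin (n + 1))))
    (he : e ∈ Tset n d (insert (jIdx n e) S)) : e ∈ Tset n d S := by
  classical
  refine ⟨he.1, ?_⟩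
  intro i hi
  by_cases hij : ULift.up i = jIdx n e
  · unfold jIdx at hij
    rw [dif_pos hex] at hij
    have := hex.choose_spec
    have h2 : i = hex.choose := congrArg ULift.down hij
    rw [h2]
    exact this
  · apply he.2 i
    rintro (h1 | h1)
    · exact hij h1
    · exact hi h1

lemma jIdx_spec {q : ℕ} (h : q + 1 < n ∨ -((n : ℤ) + 1) < d)
    (τ : Fin (q + 1) → ULift.{u} (Fin (n + 1))) (e : Fin (n + 1) → ℤ)
    (he : e ∈ Tset n d (insert (jIdx n e) (Set.range τ))) : e ∈ Tset n d (Set.range τ) := by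
  classical
  refine ⟨he.1, ?_⟩
  intro i hi
  by_cases hex : ∃ i, 0 ≤ e i
  · by_cases hij : ULift.up i = jIdx n e
    · unfold jIdx at hij
      rw [dif_pos hex] at hij
      have := hex.choose_spec
      have h2 : i = hex.choose := congrArg ULift.down hij
      rw [h2]
      exact this
    · apply he.2 i
      rintro (h1 | h1)
      · exact hij h1
      · exact hi h1
  · exfalso
    push Not at hex
    rcases h with h | h
    · -- cardinality
      have hall : ∀ i : Fin (n + 1), ULift.up i ∈ insert (jIdx n e) (Set.range τ) := by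
        intro i
        by_contra hcon
        exact absurd (he.2 i hcon) (not_le.mpr (hex i))
      -- the map `Option (Fin (q+1)) → Fin (n+1)` is surjective
      let f : Option (Fin (q + 1)) → Fin (n + 1) := fun o =>
        match o with
        | none => (jIdx n e).down
        | some k => (τ k).down
      have hf : Function.Surjective f := by
        intro i
        rcases hall i with h1 | ⟨k, hk⟩
        · exact ⟨none, by change (jIdx n e).down = i; rw [← h1]⟩
        · exact ⟨some k, by change (τ k).down = i; rw [hk]⟩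
      have hcard := Fintype.card_le_of_surjective f hf
      rw [Fintype.card_fin, Fintype.card_option, Fintype.card_fin] at hcard
      omega
    · -- degree
      have h1 : ∑ i, e i ≤ ∑ _i : Fin (n + 1), (-1 : ℤ) := by
        apply Finset.sum_le_sum
        intro i _
        have := hex i
        omega
      rw [he.1] at h1
      simp at h1
      omega

/-- **Čech acyclicity of `O(d)` on `P^n_R`** for the standard cover, in degrees `0 < p < n`
(all `d`) and in all positive degrees for `d > -(n+1)`. -/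
theorem isZero_cech_succ (q : ℕ) (h : q + 1 < n ∨ -((n : ℤ) + 1) < d) :
    IsZero ((CK (stdCov n R) (Pd n R d)).homology (q + 1)) := by
  haveI : Finite (ULift.{u} (Fin (n + 1))) := inferInstance
  exact isZero_homology_succ_of_coeff (Pd n R d) (stdCov n R) (Wopen n R) Wopen_le_stdCov
    (coeffWHom n R d) (Tset n d) q
    (fun σ s hs => Φs_injective σ s hs)
    (fun σ s => Φs_support σ s)
    (fun τ c hc hT => Φs_surjective τ c hc hT)
    (jIdx n)
    (fun τ e he => jIdx_spec h τ e he)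

end Groth.Agent.Lib.Lead.Pn
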