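import Mathlib

/-!
# Laurent coefficients of fractions `B / x^D` of multivariate polynomials

For a polynomial `B` in the variables `x_i` (`i : ι`, `ι` finite) and a denominator exponent `D`,
`lcD B D : (ι → ℤ) → R` is the function of Laurent coefficients of the fraction `B / x^D`.
-/

set_option autoImplicit false

universe u v

open MvPolynomial

namespace Groth.Agent.Lib.Lead.Pn

variable {ι : Type v} [Fintype ι] {R : Type u} [CommRing R]

/-- The natural exponent `e + D` (truncated). -/
noncomputable def natExp (e : ι → ℤ) (D : ι →₀ ℕ) : ι →₀ ℕ :=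
  Finsupp.equivFunOnFinite.symm fun i => (e i + D i).toNat

@[simp] lemma natExp_apply (e : ι → ℤ) (D : ι →₀ ℕ) (i : ι) :
    natExp e D i = (e i + D i).toNat := rfl

/-- The Laurent coefficients of `B / x^D`. -/
noncomputable def lcD (B : MvPolynomial ι R) (D : ι →₀ ℕ) : (ι → ℤ) → R := fun e =>
  open Classical in if ∀ i, 0 ≤ e i + D i then B.coeff (natExp e D) else 0

lemma lcD_pos (B : MvPolynomial ι R) (D : ι →₀ ℕ) (e : ι → ℤ) (h : ∀ i, 0 ≤ e i + D i) :
    lcD B D e = B.coeff (natExp e D) := by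
  unfold lcD
  rw [if_pos h]

lemma lcD_neg (B : MvPolynomial ι R) (D : ι →₀ ℕ) (e : ι → ℤ) (h : ¬ ∀ i, 0 ≤ e i + D i) :
    lcD B D e = 0 := by
  unfold lcD
  rw [if_neg h]

lemma lcD_add (B B' : MvPolynomial ι R) (D : ι →₀ ℕ) : lcD (B + B') D = lcD B D + lcD B' D := by
  funext e
  by_cases h : ∀ i, 0 ≤ e i + D i
  · rw [Pi.add_apply, lcD_pos _ _ _ h, lcD_pos _ _ _ h, lcD_pos _ _ _ h, coeff_add]
  · rw [Pi.add_apply, lcD_neg _ _ _ h, lcD_neg _ _ _ h, lcD_neg _ _ _ h, add_zero]

lemma lcD_zero (D : ι →₀ ℕ) : lcD (0 : MvPolynomial ι R) D = 0 := by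
  funext e
  by_cases h : ∀ i, 0 ≤ e i + D i
  · rw [lcD_pos _ _ _ h, coeff_zero]; rfl
  · rw [lcD_neg _ _ _ h]; rfl

/-- Multiplying numerator and denominator by a monomial does not change the coefficients. -/
lemma lcD_monomial_mul (B : MvPolynomial ι R) (D t : ι →₀ ℕ) :
    lcD (monomial t 1 * B) (D + t) = lcD B D := by
  funext e
  by_cases h : ∀ i, 0 ≤ e i + D i
  · have h' : ∀ i, 0 ≤ e i + ((D + t) i : ℤ) := by
      intro i
      have := h i
      rw [Finsupp.add_apply]
      push_cast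
      omega
    rw [lcD_pos _ _ _ h, lcD_pos _ _ _ h', coeff_monomial_mul']
    have hle : t ≤ natExp e (D + t) := by
      intro i
      have := h i
      rw [natExp_apply, Finsupp.add_apply]
      push_cast
      omega
    rw [if_pos hle, one_mul]
    congr 1
    ext i
    have := h i
    rw [Finsupp.tsub_apply, natExp_apply, natExp_apply, Finsupp.add_apply]
    push_cast
    omega
  · rw [lcD_neg _ _ _ h]
    by_cases h' : ∀ i, 0 ≤ e i + ((D + t) i : ℤ)
    · rw [lcD_pos _ _ _ h', coeff_monomial_mul']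
      rw [if_neg]
      intro hle
      apply h
      intro i
      have h1 := hle i
      have h2 := h' i
      rw [natExp_apply, Finsupp.add_apply] at h1
      rw [Finsupp.add_apply] at h2
      push_cast at h1 h2
      omega
    · rw [lcD_neg _ _ _ h']

/-- Cross-multiplication criterion. -/
lemma lcD_eq_of_mul_eq (B B' : MvPolynomial ι R) (D D' : ι →₀ ℕ)
    (h : monomial D' 1 * B = monomial D 1 * B') : lcD B D = lcD B' D' := by
  rw [← lcD_monomial_mul B D D', h, add_comm, lcD_monomial_mul]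

lemma lcD_ne_zero {B : MvPolynomial ι R} {D : ι →₀ ℕ} {e : ι → ℤ} (h : lcD B D e ≠ 0) :
    (∀ i, 0 ≤ e i + D i) ∧ B.coeff (natExp e D) ≠ 0 := by
  by_cases h' : ∀ i, 0 ≤ e i + D i
  · rw [lcD_pos _ _ _ h'] at h
    exact ⟨h', h⟩
  · rw [lcD_neg _ _ _ h'] at h
    exact absurd rfl h

lemma lcD_support_finite (B : MvPolynomial ι R) (D : ι →₀ ℕ) :
    (Function.support (lcD B D)).Finite := by
  apply Set.Finite.subset
    ((B.support.finite_toSet).image fun m : ι →₀ ℕ => fun i => ((m i : ℤ) - D i))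
  intro e he
  obtain ⟨h1, h2⟩ := lcD_ne_zero he
  refine ⟨natExp e D, ?_, ?_⟩
  · exact Finset.mem_coe.mpr (mem_support_iff.mpr h2)
  · funext i
    have := h1 i
    change ((natExp e D i : ℕ) : ℤ) - D i = e i
    rw [natExp_apply]
    omega

lemma lcD_degree {B : MvPolynomial ι R} {k : ℕ} (hB : B.IsHomogeneous k) {D : ι →₀ ℕ}
    {e : ι → ℤ} (h : lcD B D e ≠ 0) : ∑ i, e i = (k : ℤ) - ∑ i, (D i : ℤ) := by
  obtain ⟨h1, h2⟩ := lcD_ne_zero h
  have hdeg : (natExp e D).degree = k := by
    by_contra hne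
    exact h2 (hB.coeff_eq_zero hne)
  rw [Finsupp.degree_eq_sum] at hdeg
  have : ((∑ i, natExp e D i : ℕ) : ℤ) = ∑ i, (e i + D i) := by
    push_cast
    refine Finset.sum_congr rfl fun i _ => ?_
    have := h1 i
    rw [natExp_apply]
    omega
  rw [hdeg, Finset.sum_add_distrib] at this
  omega

/-- A fraction with vanishing Laurent coefficients has zero numerator. -/
lemma eq_zero_of_lcD_eq_zero (B : MvPolynomial ι R) (D : ι →₀ ℕ) (h : lcD B D = 0) : B = 0 := by
  ext m
  have h1 : ∀ i, 0 ≤ ((m i : ℤ) - D i) + D i := by intro i; omega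
  have h2 := lcD_pos B D (fun i => (m i : ℤ) - D i) h1
  rw [h] at h2
  have h3 : natExp (fun i => (m i : ℤ) - D i) D = m := by
    ext i
    rw [natExp_apply]
    omega
  rw [h3] at h2
  rw [coeff_zero, ← h2]
  rfl

/-- The numerator with prescribed Laurent coefficients. -/
noncomputable def numOf (c : (ι → ℤ) → R) (hc : (Function.support c).Finite) (D : ι →₀ ℕ) :
    MvPolynomial ι R :=
  ∑ e ∈ hc.toFinset, monomial (natExp e D) (c e)

lemma natExp_injOn (D : ι →₀ ℕ) {e e' : ι → ℤ} (he : ∀ i, 0 ≤ e i + D i)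
    (he' : ∀ i, 0 ≤ e' i + D i) (h : natExp e D = natExp e' D) : e = e' := by
  funext i
  have h1 := DFunLike.congr_fun h i
  have := he i
  have := he' i
  rw [natExp_apply, natExp_apply] at h1
  omega

lemma lcD_numOf (c : (ι → ℤ) → R) (hc : (Function.support c).Finite) (D : ι →₀ ℕ)
    (hD : ∀ e, c e ≠ 0 → ∀ i, 0 ≤ e i + D i) : lcD (numOf c hc D) D = c := by
  classical
  funext e
  by_cases h : ∀ i, 0 ≤ e i + D i
  · rw [lcD_pos _ _ _ h]
    unfold numOf
    rw [coeff_sum]
    by_cases hce : c e = 0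
    · rw [hce]
      apply Finset.sum_eq_zero
      intro e' he'
      rw [coeff_monomial, if_neg]
      intro heq
      have hce' : c e' ≠ 0 := by simpa using he'
      have := natExp_injOn D (hD e' hce') h heq
      rw [this] at hce'
      exact hce' hce
    · rw [Finset.sum_eq_single e]
      · rw [coeff_monomial, if_pos rfl]
      · intro e' he' hne
        rw [coeff_monomial, if_neg]
        intro heq
        have hce' : c e' ≠ 0 := by simpa using he'
        exact hne (natExp_injOn D (hD e' hce') h heq)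
      · intro hnot
        exfalso
        apply hnot
        simpa using hce
  · rw [lcD_neg _ _ _ h]
    by_contra hne
    exact h (hD e (Ne.symm hne))

lemma numOf_isHomogeneous (c : (ι → ℤ) → R) (hc : (Function.support c).Finite) (D : ι →₀ ℕ)
    (hD : ∀ e, c e ≠ 0 → ∀ i, 0 ≤ e i + D i) (k : ℕ)
    (hk : ∀ e, c e ≠ 0 → ∑ i, e i + ∑ i, (D i : ℤ) = k) : (numOf c hc D).IsHomogeneous k := by
  unfold numOf
  apply IsHomogeneous.sum
  intro e he
  have hce : c e ≠ 0 := by simpa using he
  apply isHomogeneous_monomial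
  rw [Finsupp.degree_eq_sum]
  have h1 := hk e hce
  have : ((∑ i, natExp e D i : ℕ) : ℤ) = ∑ i, (e i + D i) := by
    push_cast
    refine Finset.sum_congr rfl fun i _ => ?_
    have := hD e hce i
    rw [natExp_apply]
    omega
  rw [Finset.sum_add_distrib] at this
  omega

end Groth.Agent.Lib.Lead.Pn
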