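import Groth.Agent.Lib.Helper29.TwistPn
import Groth.Agent.Lib.Lead.Pn.Laurent

/-!
# Sections of `O(d)` on projective space as fractions with monomial denominators
-/

set_option autoImplicit false

universe u

open CategoryTheory CategoryTheory.Limits AlgebraicGeometry Opposite TopologicalSpace MvPolynomial

namespace Groth.Agent.Lib.Lead.Pn

open Groth.Agent.Lib.Helper29.QCoh

variable (n : ℕ) (R : Type u) [CommRing R]

/-- The index set. -/
abbrev I := Fin (n + 1)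

/-- The polynomial ring. -/
abbrev Apoly := MvPolynomial (Fin (n + 1)) R

/-- The grading. -/
noncomputable abbrev 𝒜 := CohB1.polyGrading n R

variable {n R}

/-- The monomial with exponent `D`. -/
noncomputable abbrev mon (D : Fin (n + 1) →₀ ℕ) : MvPolynomial (Fin (n + 1)) R := monomial D 1

lemma mon_mem (D : Fin (n + 1) →₀ ℕ) : (mon D : MvPolynomial (Fin (n + 1)) R) ∈ 𝒜 n R D.degree :=
  isHomogeneous_monomial 1 rfl

lemma mon_add (D D' : Fin (n + 1) →₀ ℕ) :
    (mon (D + D') : MvPolynomial (Fin (n + 1)) R) = mon D * mon D' := by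
  unfold mon
  rw [monomial_mul, one_mul]

lemma mon_zero : (mon 0 : MvPolynomial (Fin (n + 1)) R) = 1 := rfl

lemma mon_mul_cancel (t : Fin (n + 1) →₀ ℕ) {c : MvPolynomial (Fin (n + 1)) R}
    (h : mon t * c = 0) : c = 0 := by
  ext m
  have := congrArg (coeff (t + m)) h
  rw [coeff_monomial_mul, one_mul, coeff_zero] at this
  rw [this, coeff_zero]

lemma mon_mem_iff (x : ProjectiveSpectrum (𝒜 n R)) (D : Fin (n + 1) →₀ ℕ) :
    (mon D : MvPolynomial (Fin (n + 1)) R) ∈ x.asHomogeneousIdeal ↔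
      ∃ i ∈ D.support, (X i : MvPolynomial (Fin (n + 1)) R) ∈ x.asHomogeneousIdeal := by
  unfold mon
  rw [monomial_eq, C_1, one_mul, Finsupp.prod]
  have hp : (x.asHomogeneousIdeal.toIdeal).IsPrime := x.isPrime
  change (∏ a ∈ D.support, X a ^ D a) ∈ x.asHomogeneousIdeal.toIdeal ↔ _
  rw [hp.prod_mem_iff]
  constructor
  · rintro ⟨i, hi, h⟩
    exact ⟨i, hi, hp.mem_of_pow_mem _ h⟩
  · rintro ⟨i, hi, h⟩
    refine ⟨i, hi, ?_⟩
    have hne : D i ≠ 0 := Finsupp.mem_support_iff.mp hi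
    exact Ideal.pow_mem_of_mem _ h _ (Nat.pos_of_ne_zero hne)

/-- The standard opens. -/
noncomputable abbrev stdU (i : Fin (n + 1)) : (Proj (𝒜 n R)).Opens :=
  Proj.basicOpen (𝒜 n R) (X i)

lemma mem_stdU (i : Fin (n + 1)) (x : Proj (𝒜 n R)) :
    x ∈ stdU (n := n) (R := R) i ↔ (X i : MvPolynomial (Fin (n + 1)) R) ∉ x.asHomogeneousIdeal :=
  Proj.mem_basicOpen (𝒜 n R) (X i) x

variable (d : ℤ)

/-- `s = B / x^D` on `V`. -/
def IsRep {V : (Proj (𝒜 n R)).Opens} (s : Γ(Twist.twist (𝒜 n R) d, V))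
    (B : MvPolynomial (Fin (n + 1)) R) (D : Fin (n + 1) →₀ ℕ) : Prop :=
  ∀ x : V, tfun (𝒜 n R) s x *
      algebraMap (MvPolynomial (Fin (n + 1)) R) (Twist.Loc (𝒜 n R) x.1) (mon D) =
    algebraMap (MvPolynomial (Fin (n + 1)) R) (Twist.Loc (𝒜 n R) x.1) B

variable {d}

lemma IsRep.res {V V' : (Proj (𝒜 n R)).Opens} {s : Γ(Twist.twist (𝒜 n R) d, V)}
    {B : MvPolynomial (Fin (n + 1)) R} {D : Fin (n + 1) →₀ ℕ} (h : IsRep d s B D) (hV : V' ≤ V) :
    IsRep d (Groth.Agent.Lib.Helper29.QCoh.res (Twist.twist (𝒜 n R) d) hV s) B D := by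
  intro x
  exact h ⟨x.1, hV x.2⟩

lemma IsRep.mul {V : (Proj (𝒜 n R)).Opens} {s : Γ(Twist.twist (𝒜 n R) d, V)}
    {B : MvPolynomial (Fin (n + 1)) R} {D : Fin (n + 1) →₀ ℕ} (h : IsRep d s B D)
    (t : Fin (n + 1) →₀ ℕ) : IsRep d s (mon t * B) (D + t) := by
  intro x
  rw [mon_add, map_mul, map_mul, ← mul_assoc, h x, mul_comm]

lemma IsRep.add {V : (Proj (𝒜 n R)).Opens} {s s' : Γ(Twist.twist (𝒜 n R) d, V)}
    {B B' : MvPolynomial (Fin (n + 1)) R} {D D' : Fin (n + 1) →₀ ℕ} (h : IsRep d s B D)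
    (h' : IsRep d s' B' D') : IsRep d (s + s') (mon D' * B + mon D * B') (D + D') := by
  intro x
  rw [tfun_add, mon_add, map_mul, map_add, map_mul, map_mul, ← h x, ← h' x]
  ring

lemma isRep_zero {V : (Proj (𝒜 n R)).Opens} (D : Fin (n + 1) →₀ ℕ) :
    IsRep d (0 : Γ(Twist.twist (𝒜 n R) d, V)) 0 D := by
  intro x
  have : tfun (𝒜 n R) (0 : Γ(Twist.twist (𝒜 n R) d, V)) x = 0 := rfl
  rw [this, zero_mul, map_zero]

lemma isUnit_algebraMap_mon {x : ProjectiveSpectrum (𝒜 n R)} {D : Fin (n + 1) →₀ ℕ}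
    (h : (mon D : MvPolynomial (Fin (n + 1)) R) ∉ x.asHomogeneousIdeal) :
    IsUnit (algebraMap _ (Twist.Loc (𝒜 n R) x) (mon D : MvPolynomial (Fin (n + 1)) R)) :=
  IsLocalization.map_units (Twist.Loc (𝒜 n R) x)
    (⟨mon D, h⟩ : x.asHomogeneousIdeal.toIdeal.primeCompl)

/-- A section represented with zero numerator vanishes. -/
lemma IsRep.eq_zero {V : (Proj (𝒜 n R)).Opens} {s : Γ(Twist.twist (𝒜 n R) d, V)}
    {D : Fin (n + 1) →₀ ℕ} (h : IsRep d s 0 D)
    (hV : ∀ x : V, (mon D : MvPolynomial (Fin (n + 1)) R) ∉ x.1.asHomogeneousIdeal) : s = 0 := by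
  apply tfun_ext
  intro x
  have h1 := h x
  rw [map_zero] at h1
  have h2 : tfun (𝒜 n R) (0 : Γ(Twist.twist (𝒜 n R) d, V)) x = 0 := rfl
  rw [h2]
  exact (isUnit_algebraMap_mon (hV x)).mul_left_eq_zero.mp h1

/-- The fraction `B / x^D` as a section. -/
noncomputable def fracSec (V : (Proj (𝒜 n R)).Opens) {k : ℕ} (B : 𝒜 n R k) (D : Fin (n + 1) →₀ ℕ)
    (hV : ∀ x : V, (mon D : MvPolynomial (Fin (n + 1)) R) ∉ x.1.asHomogeneousIdeal)
    (hk : (k : ℤ) = D.degree + d) : Γ(Twist.twist (𝒜 n R) d, V) :=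
  mkSec (𝒜 n R) d V B (⟨mon D, mon_mem D⟩ : 𝒜 n R D.degree) hV hk

lemma isRep_fracSec (V : (Proj (𝒜 n R)).Opens) {k : ℕ} (B : 𝒜 n R k) (D : Fin (n + 1) →₀ ℕ)
    (hV : ∀ x : V, (mon D : MvPolynomial (Fin (n + 1)) R) ∉ x.1.asHomogeneousIdeal)
    (hk : (k : ℤ) = D.degree + d) : IsRep d (fracSec V B D hV hk) B.1 D := by
  intro x
  unfold fracSec
  rw [tfun_mkSec, Localization.mk_eq_mk']
  exact IsLocalization.mk'_spec _ _ _


lemma IsRep.cross {V : (Proj (𝒜 n R)).Opens} {s : Γ(Twist.twist (𝒜 n R) d, V)}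
    {B B' : MvPolynomial (Fin (n + 1)) R} {D D' : Fin (n + 1) →₀ ℕ} (h : IsRep d s B D)
    (h' : IsRep d s B' D') (x : V) :
    algebraMap (MvPolynomial (Fin (n + 1)) R) (Twist.Loc (𝒜 n R) x.1) (mon D' * B) =
      algebraMap (MvPolynomial (Fin (n + 1)) R) (Twist.Loc (𝒜 n R) x.1) (mon D * B') := by
  rw [map_mul, map_mul, ← h x, ← h' x]
  ring

/-- The exponent `(1, …, 1)`. -/
noncomputable def ones : Fin (n + 1) →₀ ℕ := Finsupp.equivFunOnFinite.symm fun _ => 1

@[simp] lemma ones_apply (i : Fin (n + 1)) : (ones (n := n)) i = 1 := rfl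

lemma ones_degree : (ones (n := n)).degree = n + 1 := by
  rw [Finsupp.degree_eq_sum]
  simp

lemma ones_support : (ones (n := n)).support = Finset.univ := by
  ext i
  simp

variable (n R) in
/-- The intersection of all standard opens. -/
noncomputable abbrev Wopen : (Proj (𝒜 n R)).Opens :=
  Proj.basicOpen (𝒜 n R) (mon (ones (n := n)))

lemma mem_Wopen (x : Proj (𝒜 n R)) :
    x ∈ Wopen n R ↔ ∀ i, (X i : MvPolynomial (Fin (n + 1)) R) ∉ x.asHomogeneousIdeal := by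
  rw [Proj.mem_basicOpen, mon_mem_iff, ones_support]
  simp

lemma mon_smul (k : ℕ) (D : Fin (n + 1) →₀ ℕ) :
    (mon (k • D) : MvPolynomial (Fin (n + 1)) R) = mon D ^ k := by
  unfold mon
  rw [monomial_pow, one_pow]

/-- Uniqueness of representations over `W`, in cross-multiplied form. -/
lemma IsRep.cross_eq {s : Γ(Twist.twist (𝒜 n R) d, Wopen n R)}
    {B B' : MvPolynomial (Fin (n + 1)) R} {D D' : Fin (n + 1) →₀ ℕ} {k k' : ℕ}
    (hB : B ∈ 𝒜 n R k) (hB' : B' ∈ 𝒜 n R k') (hk : k + D'.degree = k' + D.degree)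
    (h : IsRep d s B D) (h' : IsRep d s B' D') : mon D' * B = mon D * B' := by
  have h1 : mon D' * B ∈ 𝒜 n R (D'.degree + k) := SetLike.mul_mem_graded (mon_mem D') hB
  have h2 : mon D * B' ∈ 𝒜 n R (D'.degree + k) := by
    have : D.degree + k' = D'.degree + k := by omega
    rw [← this]
    exact SetLike.mul_mem_graded (mon_mem D) hB'
  let c : 𝒜 n R (D'.degree + k) := ⟨mon D' * B - mon D * B', Submodule.sub_mem _ h1 h2⟩
  have hpos : 0 < (ones (n := n)).degree := by rw [ones_degree]; omega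
  obtain ⟨N, hN⟩ := exists_pow_mul_eq_zero_of_forall_mk_eq_zero c hpos
    (⟨mon (ones (n := n)), mon_mem _⟩ : 𝒜 n R (ones (n := n)).degree) (by
      intro x hx
      have e0 : (Localization.mk c.1 ⟨1, one_not_mem x⟩ : Twist.Loc (𝒜 n R) x) =
          algebraMap _ _ (mon D' * B - mon D * B') := Localization.mk_one_eq_algebraMap _
      rw [e0, map_sub, sub_eq_zero]
      exact h.cross h' ⟨x, hx⟩)
  change mon (ones (n := n)) ^ N * (mon D' * B - mon D * B') = 0 at hN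
  rw [← mon_smul] at hN
  exact sub_eq_zero.mp (mon_mul_cancel _ hN)

lemma basicOpen_mon_le (D : Fin (n + 1) →₀ ℕ) (i : Fin (n + 1)) (hi : i ∈ D.support) :
    Proj.basicOpen (𝒜 n R) (mon D) ≤ stdU i := by
  intro x hx
  rw [mem_stdU]
  intro hX
  exact (Proj.mem_basicOpen (𝒜 n R) _ x).mp hx ((mon_mem_iff x D).mpr ⟨i, hi, hX⟩)

/-- Every section of `O(d)` over `D_+(x^{D₀})` is a fraction `B / x^{N D₀}`. -/
theorem exists_isRep (D₀ : Fin (n + 1) →₀ ℕ) (i₀ : Fin (n + 1)) (hi₀ : i₀ ∈ D₀.support)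
    (s : Γ(Twist.twist (𝒜 n R) d, Proj.basicOpen (𝒜 n R) (mon D₀))) :
    ∃ (N k : ℕ) (B : MvPolynomial (Fin (n + 1)) R), B ∈ 𝒜 n R k ∧
      (k : ℤ) = N * D₀.degree + d ∧ IsRep d s B (N • D₀) := by
  classical
  have hV' := basicOpen_mon_le (R := R) D₀ i₀ hi₀
  have hD₀ : 1 ≤ D₀ i₀ := Nat.one_le_iff_ne_zero.mpr (Finsupp.mem_support_iff.mp hi₀)
  have hdeg1 : 1 ≤ D₀.degree := by
    rw [Finsupp.degree_eq_sum]
    exact hD₀.trans (Finset.single_le_sum (f := fun i => D₀ i) (fun _ _ => Nat.zero_le _)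
      (Finset.mem_univ i₀))
  set p := d.toNat with hp
  set q := (-d).toNat with hq
  have hd : d = ((p : ℤ) - q) * (1 : ℕ) := by
    rw [hp, hq, Int.toNat_sub_toNat_neg]; simp
  have hT := isTriv_eSec d (Xi n R i₀) p q hd _ hV'
  obtain ⟨r, rfl⟩ := hT.exists_eq_smul s
  obtain ⟨i', a, j, hb, hr⟩ := exists_ofun_eq_mk (lt_of_lt_of_le Nat.zero_lt_one hdeg1)
    (⟨mon D₀, mon_mem D₀⟩ : 𝒜 n R D₀.degree) r
  by_cases hij : i' = j * D₀.degree
  · -- the main case
    set t : Fin (n + 1) →₀ ℕ := D₀ - Finsupp.single i₀ 1 with ht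
    have hle : Finsupp.single i₀ 1 ≤ D₀ := by
      intro i
      by_cases hi : i = i₀
      · subst hi; simpa using hD₀
      · rw [Finsupp.single_eq_of_ne hi]; exact Nat.zero_le _
    have hDt : D₀ = Finsupp.single i₀ 1 + t := by rw [ht, add_tsub_cancel_of_le hle]
    have htdeg : D₀.degree = 1 + t.degree := by
      conv_lhs => rw [hDt]
      rw [map_add, Finsupp.degree_single]
    refine ⟨j + q, i' + p + (q • t).degree, a.1 * X i₀ ^ p * mon (q • t), ?_, ?_, ?_⟩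
    · exact SetLike.mul_mem_graded (SetLike.mul_mem_graded a.2
        (by simpa using (isHomogeneous_X R i₀).pow p)) (mon_mem _)
    · have h1 : (q • t).degree = q * t.degree := by rw [map_nsmul, smul_eq_mul]
      have h2 := Int.toNat_sub_toNat_neg d
      rw [h1, hij, htdeg]
      push_cast
      rw [← hp, ← hq] at h2
      linear_combination h2
    · intro x
      rw [tfun_smul, hr x, tfun_eSec]
      have e1 : (mon ((j + q) • D₀) : MvPolynomial (Fin (n + 1)) R) =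
          mon D₀ ^ j * (X i₀ ^ q * mon (q • t)) := by
        rw [add_smul, mon_add, mon_smul]
        congr 1
        conv_lhs => rw [hDt]
        rw [smul_add, mon_add, mon_smul, mon_smul]
        rfl
      rw [e1, Localization.mk_eq_mk']
      have hA := IsLocalization.mk'_spec (Twist.Loc (𝒜 n R) x.1) a.1
        (⟨mon D₀ ^ j, pow_not_mem_of_not_mem x.2 j⟩ : x.1.asHomogeneousIdeal.toIdeal.primeCompl)
      have hP := IsLocalization.mk'_spec (Twist.Loc (𝒜 n R) x.1) ((Xi n R i₀).1 ^ p)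
        (⟨(Xi n R i₀).1 ^ q, pow_not_mem_of_not_mem (hV' x.2) q⟩ :
          x.1.asHomogeneousIdeal.toIdeal.primeCompl)
      simp only [map_mul] at hA hP ⊢
      calc _ = (IsLocalization.mk' (Twist.Loc (𝒜 n R) x.1) a.1
              (⟨mon D₀ ^ j, pow_not_mem_of_not_mem x.2 j⟩ :
                x.1.asHomogeneousIdeal.toIdeal.primeCompl) *
              algebraMap _ _ (mon D₀ ^ j)) *
            (IsLocalization.mk' (Twist.Loc (𝒜 n R) x.1) ((Xi n R i₀).1 ^ p)
              (⟨(Xi n R i₀).1 ^ q, pow_not_mem_of_not_mem (hV' x.2) q⟩ :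
                x.1.asHomogeneousIdeal.toIdeal.primeCompl) *
              algebraMap _ _ ((Xi n R i₀).1 ^ q)) *
            algebraMap _ _ (mon (q • t)) := by ring
        _ = _ := by rw [hA, hP]
  · have h0 : (mon D₀ : MvPolynomial (Fin (n + 1)) R) ^ j = 0 := by
      have h1 := DirectSum.decompose_of_mem_same (𝒜 n R) hb
      have hj : (mon D₀ : MvPolynomial (Fin (n + 1)) R) ^ j ∈ 𝒜 n R (j * D₀.degree) := by
        have := SetLike.pow_mem_graded j (mon_mem (R := R) D₀)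
        rwa [smul_eq_mul] at this
      have h2 := DirectSum.decompose_of_mem_ne (𝒜 n R) hj (Ne.symm hij)
      rw [← h1, h2]
    refine ⟨q, (q * D₀.degree + d).toNat, 0, Submodule.zero_mem _, ?_, ?_⟩
    · have h2 := Int.toNat_sub_toNat_neg d
      rw [← hp, ← hq] at h2
      have h3 : (0 : ℤ) ≤ q * D₀.degree + d := by
        have : (q : ℤ) ≤ q * D₀.degree := by
          have h4 : (1 : ℤ) ≤ D₀.degree := by exact_mod_cast hdeg1
          nlinarith [Int.natCast_nonneg q]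
        omega
      rw [Int.toNat_of_nonneg h3]
    · intro x
      exfalso
      apply x.2
      have : (mon D₀ : MvPolynomial (Fin (n + 1)) R) ^ j ∈ x.1.asHomogeneousIdeal := by
        rw [h0]; exact Ideal.zero_mem _
      exact x.1.isPrime.mem_of_pow_mem j this

end Groth.Agent.Lib.Lead.Pn
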