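import Groth.Agent.Lib.Lead.Pn.Cover
import Groth.Agent.Lib.Helper29.TwistPn2

/-!
# The action of the base ring on sections of `O(d)` and Laurent coefficients
-/

set_option autoImplicit false

universe u

open CategoryTheory CategoryTheory.Limits AlgebraicGeometry Opposite TopologicalSpace MvPolynomial

namespace Groth.Agent.Lib.Lead.Pn

open Groth.Agent.Lib.Helper29.QCoh Groth.Agent.Lib.Helper22.Cech

variable {n : ℕ} {R : Type u} [CommRing R] {d : ℤ}

lemma lcD_C_mul {ι : Type*} [Fintype ι] (r : R) (B : MvPolynomial ι R) (D : ι →₀ ℕ) :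
    lcD (C r * B) D = r • lcD B D := by
  funext e
  by_cases h : ∀ i, 0 ≤ e i + D i
  · rw [Pi.smul_apply, lcD_pos _ _ _ h, lcD_pos _ _ _ h, coeff_C_mul, smul_eq_mul]
  · rw [Pi.smul_apply, lcD_neg _ _ _ h, lcD_neg _ _ _ h, smul_zero]

variable (n) in
/-- The global function attached to an element of the base ring. -/
noncomputable def gfun (r : R) : Γ(Proj (𝒜 n R), ⊤) :=
  Coh.toGlobal (CohB1.ProjSpace.toSpec n R) r

/-- The action of an element of the base ring on the sections over an open. -/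
noncomputable def rsmul (r : R) {V : (Proj (𝒜 n R)).Opens} (s : Γ(Twist.twist (𝒜 n R) d, V)) :
    Γ(Twist.twist (𝒜 n R) d, V) :=
  (rres (Proj (𝒜 n R)) (le_top : V ≤ ⊤) (gfun n r)) • s

lemma tfun_rsmul (r : R) {V : (Proj (𝒜 n R)).Opens} (s : Γ(Twist.twist (𝒜 n R) d, V)) (x : V) :
    tfun (𝒜 n R) (rsmul r s) x =
      algebraMap (MvPolynomial (Fin (n + 1)) R) (Twist.Loc (𝒜 n R) x.1) (C r) *
        tfun (𝒜 n R) s x := by
  unfold rsmul
  rw [tfun_smul, ofun_res]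
  have h := ofun_toGlobal n R r ⟨x.1, trivial⟩
  unfold gfun
  rw [h]
  congr 1

lemma IsRep.rsmul {V : (Proj (𝒜 n R)).Opens} {s : Γ(Twist.twist (𝒜 n R) d, V)}
    {B : MvPolynomial (Fin (n + 1)) R} {D : Fin (n + 1) →₀ ℕ} (h : IsRep d s B D) (r : R) :
    IsRep d (Pn.rsmul r s) (C r * B) D := by
  intro x
  rw [tfun_rsmul, map_mul, mul_assoc, h x]

/-- Scalar multiple of a representation. -/
noncomputable def Rep.rsmul {V : (Proj (𝒜 n R)).Opens} {s : Γ(Twist.twist (𝒜 n R) d, V)}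
    (ρ : Rep d s) (r : R) : Rep d (Pn.rsmul r s) where
  B := C r * ρ.B
  D := ρ.D
  k := ρ.k
  hB := by
    have h := Submodule.smul_mem (𝒜 n R ρ.k) r ρ.hB
    rwa [smul_eq_C_mul] at h
  hk := ρ.hk
  h := ρ.h.rsmul r

lemma Φs_rsmul {q : ℕ} (σ : Fin (q + 1) → ULift.{u} (Fin (n + 1))) (r : R)
    (s : Γ(Twist.twist (𝒜 n R) d, Us (R := R) σ)) :
    Φs n R d σ (rsmul r s) = r • Φs n R d σ s := by
  obtain ⟨N, ρ, -⟩ := nonempty_rep_Uσ σ s
  rw [Φs_eq σ ρ, Φs_eq σ (ρ.rsmul r)]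
  exact lcD_C_mul r ρ.B ρ.D

lemma smulAb_app_eq (r : R) (V : (Proj (𝒜 n R)).Opens) (s : Γ(Twist.twist (𝒜 n R) d, V)) :
    (Coh.smulAb (Twist.twist (𝒜 n R) d) (Coh.toGlobal (CohB1.ProjSpace.toSpec n R) r)).hom.app
      (op V) s = rsmul r s := rfl

end Groth.Agent.Lib.Lead.Pn
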