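import Groth.Agent.Lib.Lead.Pn.Smul
import Groth.Agent.Lib.Lead.Pn.Alt
import Groth.Agent.Lib.Lead.Pn.HomologyOfMap

/-!
# The top Čech cohomology of `O(d)` on `P^{m+1}_R` for the standard cover
-/

set_option autoImplicit false

universe u

open CategoryTheory CategoryTheory.Limits AlgebraicGeometry Opposite TopologicalSpace MvPolynomial

namespace Groth.Agent.Lib.Lead.Pn

open Groth.Agent.Lib.Helper29.QCoh Groth.Agent.Lib.Helper22.Cech

variable {m : ℕ} {R : Type u} [CommRing R] {d : ℤ}

variable (m) in
/-- The identity tuple. -/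
def σ₀ : Fin (m + 2) → ULift.{u} (Fin (m + 2)) := fun k => ULift.up k

/-- The exponents of total degree `d` with all entries negative. -/
def EnegD (m : ℕ) (d : ℤ) : Set (Fin (m + 2) → ℤ) := {e | ∑ i, e i = d ∧ ∀ i, e i < 0}

lemma EnegD_finite (m : ℕ) (d : ℤ) : (EnegD m d).Finite := by
  apply Set.Finite.subset (Set.Finite.pi' fun _ : Fin (m + 2) => Set.finite_Icc (d + (m + 1)) (-1))
  intro e he i
  refine ⟨?_, by have := he.2 i; omega⟩
  have h1 : ∑ j, e j = e i + ∑ j ∈ Finset.univ.erase i, e j := by
    rw [Finset.add_sum_erase _ _ (Finset.mem_univ i)]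
  have h2 : ∑ j ∈ Finset.univ.erase i, e j ≤ ∑ _j ∈ Finset.univ.erase i, (-1 : ℤ) := by
    apply Finset.sum_le_sum
    intro j _
    have := he.2 j
    omega
  rw [Finset.sum_const, Finset.card_erase_of_mem (Finset.mem_univ i)] at h2
  simp only [Finset.card_univ, Fintype.card_fin, Nat.add_one_sub_one, smul_eq_mul,
    mul_neg, mul_one, nsmul_eq_mul] at h2
  have h3 := he.1
  push_cast at h2
  omega

variable (m R d) in
/-- The coefficient functions supported on the negative exponents of degree `d`. -/
def Ttop : Submodule R ((Fin (m + 2) → ℤ) → R) where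
  carrier := {c | ∀ e, c e ≠ 0 → e ∈ EnegD m d}
  add_mem' := by
    intro a b ha hb e he
    by_cases h : a e = 0
    · apply hb e
      intro h'
      apply he
      rw [Pi.add_apply, h, h', add_zero]
    · exact ha e h
  zero_mem' := by
    intro e he
    exact absurd rfl he
  smul_mem' := by
    intro r a ha e he
    apply ha e
    intro h'
    apply he
    rw [Pi.smul_apply, h', smul_zero]

variable (m R d) in
/-- The Čech complex of `O(d)` on `P^{m+1}` for the standard cover. -/
noncomputable abbrev KK : CochainComplex AddCommGrpCat.{u} ℕ :=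
  CK (stdCov (m + 1) R) (Pd (m + 1) R d)

/-- The coefficients of the components of a cochain of top degree. -/
noncomputable def cf (x : (KK m R d).X (m + 1)) (σ : Fin (m + 2) → ULift.{u} (Fin (m + 2))) :
    (Fin (m + 2) → ℤ) → R :=
  Φs (m + 1) R d σ (proj (stdCov (m + 1) R) (Pd (m + 1) R d) (m + 1) σ x)

lemma cf_add (x y : (KK m R d).X (m + 1)) (σ : Fin (m + 2) → ULift.{u} (Fin (m + 2))) :
    cf (x + y) σ = cf x σ + cf y σ := by
  unfold cf
  rw [map_add, map_add]

lemma cf_mem_Tset (x : (KK m R d).X (m + 1)) (σ : Fin (m + 2) → ULift.{u} (Fin (m + 2)))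
    {e : Fin (m + 2) → ℤ} (he : cf x σ e ≠ 0) : e ∈ Tset (m + 1) d (Set.range σ) :=
  (Φs_support σ _).2 he

lemma cf_eq_zero_of_not_surjective (x : (KK m R d).X (m + 1))
    (σ : Fin (m + 2) → ULift.{u} (Fin (m + 2))) (hσ : ¬ Function.Surjective σ)
    (e : Fin (m + 2) → ℤ) (he : ∀ i, e i < 0) : cf x σ e = 0 := by
  by_contra hne
  have h1 := cf_mem_Tset x σ hne
  unfold Function.Surjective at hσ
  push Not at hσ
  obtain ⟨b, hb⟩ := hσ
  have h2 := h1.2 b.down (by
    rintro ⟨a, ha⟩
    exact hb a ha)
  have := he b.down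
  omega

/-- The top coefficient function of a cochain. -/
noncomputable def topFun (x : (KK m R d).X (m + 1)) : (Fin (m + 2) → ℤ) → R := fun e =>
  open Classical in if ∀ i, e i < 0 then cf x (σ₀ m) e else 0

lemma topFun_mem (x : (KK m R d).X (m + 1)) : topFun x ∈ Ttop m R d := by
  classical
  intro e he
  unfold topFun at he
  by_cases h : ∀ i, e i < 0
  · rw [if_pos h] at he
    exact ⟨(cf_mem_Tset x _ he).1, h⟩
  · rw [if_neg h] at he
    exact absurd rfl he

variable (m R d) in
/-- The top coefficient map. -/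
noncomputable def topHom : (KK m R d).X (m + 1) →+ Ttop m R d :=
  AddMonoidHom.mk' (fun x => ⟨topFun x, topFun_mem x⟩) (by
    classical
    intro x y
    apply Subtype.ext
    funext e
    change topFun (x + y) e = topFun x e + topFun y e
    unfold topFun
    by_cases h : ∀ i, e i < 0
    · rw [if_pos h, if_pos h, if_pos h, cf_add]
      rfl
    · rw [if_neg h, if_neg h, if_neg h, add_zero])

lemma topHom_apply (x : (KK m R d).X (m + 1)) (e : Fin (m + 2) → ℤ) :
    (topHom m R d x).1 e = topFun x e := rfl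

lemma up_not_mem_range_face (k : Fin (m + 2)) :
    ULift.up k ∉ Set.range (σ₀.{u} m ∘ k.succAbove) := by
  rintro ⟨l, hl⟩
  have : k.succAbove l = k := congrArg ULift.down hl
  exact Fin.succAbove_ne k l this

/-- (a) The top coefficient map kills coboundaries. -/
lemma topHom_d (y : (KK m R d).X m) : topHom m R d ((KK m R d).d m (m + 1) y) = 0 := by
  classical
  apply Subtype.ext
  funext e
  change topFun _ e = 0
  unfold topFun
  by_cases h : ∀ i, e i < 0
  · rw [if_pos h]
    unfold cf
    have h1 := Φσ_d (Pd (m + 1) R d) (stdCov (m + 1) R) (Wopen (m + 1) R) Wopen_le_stdCov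
      (coeffWHom (m + 1) R d) y (σ₀ m)
    rw [h1, Finset.sum_apply]
    apply Finset.sum_eq_zero
    intro k _
    rw [Pi.smul_apply]
    by_contra hne
    have hne' : Φs (m + 1) R d (σ₀ m ∘ k.succAbove)
        (proj (stdCov (m + 1) R) (Pd (m + 1) R d) m (σ₀ m ∘ k.succAbove) y) e ≠ 0 := by
      intro h0
      apply hne
      rw [h0, smul_zero]
    have h2 := (Φs_support (σ₀ m ∘ k.succAbove) _).2 hne'
    have h3 := h2.2 k (up_not_mem_range_face k)
    have := h k
    omega
  · rw [if_neg h]

lemma injective_iff_surjective_tuple (σ : Fin (m + 2) → ULift.{u} (Fin (m + 2))) :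
    Function.Injective σ ↔ Function.Surjective σ :=
  Finite.injective_iff_surjective_of_equiv Equiv.ulift.symm

/-- The cocycle identity on coefficients. -/
lemma cf_cocycle (x : (KK m R d).X (m + 1)) (hx : (KK m R d).d (m + 1) (m + 2) x = 0)
    (ρ : Fin (m + 3) → ULift.{u} (Fin (m + 2))) (e : Fin (m + 2) → ℤ) :
    ∑ k : Fin (m + 3), (-1 : ℤ) ^ (k : ℕ) • cf x (ρ ∘ k.succAbove) e = 0 := by
  have h1 := Φσ_d (Pd (m + 1) R d) (stdCov (m + 1) R) (Wopen (m + 1) R) Wopen_le_stdCov
    (coeffWHom (m + 1) R d) x ρ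
  rw [hx] at h1
  have h0 : proj (stdCov (m + 1) R) (Pd (m + 1) R d) (m + 2) ρ
      (0 : (CK (stdCov (m + 1) R) (Pd (m + 1) R d)).X (m + 2)) = 0 := map_zero _
  rw [h0, map_zero] at h1
  have h2 := congrFun h1 e
  rw [Finset.sum_apply] at h2
  exact h2.symm

/-- The alternating property: a cocycle whose coefficient at the identity tuple vanishes at a
negative exponent has vanishing coefficients at that exponent for all tuples. -/
lemma cf_eq_zero_of_cocycle (x : (KK m R d).X (m + 1))
    (hx : (KK m R d).d (m + 1) (m + 2) x = 0) (e : Fin (m + 2) → ℤ) (he : ∀ i, e i < 0)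
    (h0 : cf x (σ₀ m) e = 0) (σ : Fin (m + 2) → ULift.{u} (Fin (m + 2))) : cf x σ e = 0 := by
  by_cases hs : Function.Surjective σ
  · let g : (Fin (m + 2) → Fin (m + 2)) → R := fun σ' => cf x (fun k => ULift.up (σ' k)) e
    have hg0 : ∀ σ', ¬ Function.Injective σ' → g σ' = 0 := by
      intro σ' hσ'
      apply cf_eq_zero_of_not_surjective x _ _ e he
      intro hsur
      apply hσ'
      have : Function.Injective fun k => (ULift.up (σ' k) : ULift.{u} (Fin (m + 2))) :=
        (injective_iff_surjective_tuple _).mpr hsur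
      intro a b hab
      exact this (congrArg ULift.up hab)
    have hgc : ∀ ρ : Fin (m + 3) → Fin (m + 2),
        ∑ k : Fin (m + 3), (-1 : ℤ) ^ (k : ℕ) • g (ρ ∘ k.succAbove) = 0 := by
      intro ρ
      exact cf_cocycle x hx (fun k => ULift.up (ρ k)) e
    have hbij : Function.Bijective fun k => (σ k).down := by
      have hinj : Function.Injective σ := (injective_iff_surjective_tuple σ).mpr hs
      constructor
      · intro a b hab
        exact hinj (ULift.ext _ _ hab)
      · intro b
        obtain ⟨a, ha⟩ := hs (ULift.up b)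
        exact ⟨a, by change (σ a).down = b; rw [ha]⟩
    have h1 := alt_of_cocycle g hg0 hgc (Equiv.ofBijective _ hbij) id
    have h2 : g id = 0 := h0
    rw [h2, smul_zero] at h1
    exact h1
  · exact cf_eq_zero_of_not_surjective x σ hs e he

/-- (c) A cocycle with vanishing top coefficients is a coboundary. -/
lemma exists_primitive_top (x : (KK m R d).X (m + 1))
    (hx : (KK m R d).d (m + 1) (m + 2) x = 0) (h0 : topHom m R d x = 0) :
    ∃ y : (KK m R d).X m, (KK m R d).d m (m + 1) y = x := by
  classical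
  refine exists_primitive_of_coeff (Pd (m + 1) R d) (stdCov (m + 1) R) (Wopen (m + 1) R)
    Wopen_le_stdCov (coeffWHom (m + 1) R d) (Tset (m + 1) d) m
    (fun σ s hs => Φs_injective σ s hs) (fun σ s => Φs_support σ s)
    (fun τ c hc hT => Φs_surjective τ c hc hT) (jIdx (m + 1)) x hx ?_
  intro τ e he
  have he' : cf x (Fin.cons (jIdx (m + 1) e) τ) e ≠ 0 := he
  by_cases hex : ∃ i, 0 ≤ e i
  · have h1 := cf_mem_Tset x _ he'
    rw [range_cons'] at h1
    exact jIdx_spec' e hex _ h1
  · exfalso
    push Not at hex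
    apply he'
    apply cf_eq_zero_of_cocycle x hx e hex
    have h2 := congrArg (fun t => t.1 e) h0
    change topFun x e = 0 at h2
    unfold topFun at h2
    rwa [if_pos hex] at h2

lemma sgnZ_down_eq_zero (σ : Fin (m + 2) → ULift.{u} (Fin (m + 2)))
    (hσ : ¬ Function.Surjective σ) : sgnZ (fun k => (σ k).down) = 0 := by
  apply sgnZ_eq_zero_of_not_injective
  intro hinj
  apply hσ
  rw [← injective_iff_surjective_tuple]
  intro a b hab
  exact hinj (congrArg ULift.down hab)

/-- (b) Every coefficient function supported on the negative exponents comes from a cocycle. -/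
lemma exists_cocycle_top (t : Ttop m R d) :
    ∃ x : (KK m R d).X (m + 1), (KK m R d).d (m + 1) (m + 2) x = 0 ∧ topHom m R d x = t := by
  classical
  have hfin : (Function.support t.1).Finite :=
    (EnegD_finite m d).subset fun e he => t.2 e he
  have hex : ∀ σ : Fin (m + 2) → ULift.{u} (Fin (m + 2)),
      ∃ s : Γ(Twist.twist (𝒜 (m + 1) R) d, Us (R := R) σ),
        Φs (m + 1) R d σ s = (sgnZ fun k => (σ k).down) • t.1 := by
    intro σ
    by_cases hs : Function.Surjective σ
    · apply Φs_surjective σ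
      · exact hfin.subset (Function.support_const_smul_subset _ _)
      · intro e he
        have he' : t.1 e ≠ 0 := by
          intro h
          apply he
          rw [Pi.smul_apply, h, smul_zero]
        refine ⟨(t.2 e he').1, ?_⟩
        intro i hi
        exact absurd (hs (ULift.up i)) hi
    · exact ⟨0, by rw [map_zero, sgnZ_down_eq_zero σ hs, zero_smul]⟩
  choose s hs using hex
  refine ⟨mk (stdCov (m + 1) R) (Pd (m + 1) R d) s, ?_, ?_⟩
  · apply ext_proj
    intro ρ
    have h0 : proj (stdCov (m + 1) R) (Pd (m + 1) R d) (m + 2) ρ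
        (0 : (CK (stdCov (m + 1) R) (Pd (m + 1) R d)).X (m + 2)) = 0 := map_zero _
    rw [h0]
    apply Φs_injective ρ
    have h1 := Φσ_d (Pd (m + 1) R d) (stdCov (m + 1) R) (Wopen (m + 1) R) Wopen_le_stdCov
      (coeffWHom (m + 1) R d) (mk (stdCov (m + 1) R) (Pd (m + 1) R d) s) ρ
    rw [h1]
    have h2 : ∀ k : Fin (m + 3), (-1 : ℤ) ^ (k : ℕ) •
        Φσ (Pd (m + 1) R d) (stdCov (m + 1) R) (Wopen (m + 1) R) Wopen_le_stdCov
          (coeffWHom (m + 1) R d) (ρ ∘ k.succAbove)
          (proj (stdCov (m + 1) R) (Pd (m + 1) R d) (m + 1) (ρ ∘ k.succAbove)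
            (mk (stdCov (m + 1) R) (Pd (m + 1) R d) s)) =
        ((-1 : ℤ) ^ (k : ℕ) * sgnZ ((fun l => (ρ l).down) ∘ k.succAbove)) • t.1 := by
      intro k
      rw [proj_mk]
      have := hs (ρ ∘ k.succAbove)
      change Φσ _ _ _ _ _ _ _ = _ at this
      rw [this, smul_smul]
      rfl
    rw [Finset.sum_congr rfl fun k _ => h2 k, ← Finset.sum_smul, sum_sgnZ_face, zero_smul]
  · apply Subtype.ext
    funext e
    change topFun _ e = t.1 e
    unfold topFun
    by_cases h : ∀ i, e i < 0
    · rw [if_pos h]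
      unfold cf
      rw [proj_mk, hs (σ₀ m)]
      have : (fun k => (σ₀.{u} m k).down) = id := rfl
      rw [this, sgnZ_id, one_smul]
    · rw [if_neg h]
      by_contra hne
      exact h (t.2 e (Ne.symm hne)).2

/-- **The top Čech cohomology of `O(d)` on `P^{m+1}`.** -/
theorem exists_top_equiv :
    ∃ ε : (KK m R d).homology (m + 1) ≃+ Ttop m R d, ∀ z : (KK m R d).cycles (m + 1),
      ε ((KK m R d).homologyπ (m + 1) z) = topHom m R d ((KK m R d).iCycles (m + 1) z) :=
  exists_homology_addEquiv_of_map (KK m R d) m (topHom m R d) topHom_d exists_cocycle_top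
    exists_primitive_top

end Groth.Agent.Lib.Lead.Pn
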