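import Groth.Agent.Lib.Lead.Pn.Top

/-!
# Linearity of the top coefficient map, and the identification with homogeneous polynomials
-/

set_option autoImplicit false

universe u

open CategoryTheory CategoryTheory.Limits AlgebraicGeometry Opposite TopologicalSpace MvPolynomial

namespace Groth.Agent.Lib.Lead.Pn

open Groth.Agent.Lib.Helper29.QCoh Groth.Agent.Lib.Helper22.Cech

variable {m : ℕ} {R : Type u} [CommRing R] {d : ℤ}

variable (m R d) in
/-- Multiplication by an element of the base ring, as an endomorphism of the abelian sheaf. -/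
noncomputable abbrev rEnd (r : R) :
    Coh.toAb (Twist.twist (𝒜 (m + 1) R) d) ⟶ Coh.toAb (Twist.twist (𝒜 (m + 1) R) d) :=
  Coh.smulAb (Twist.twist (𝒜 (m + 1) R) d) (Coh.toGlobal (CohB1.ProjSpace.toSpec (m + 1) R) r)

variable (m R d) in
/-- The induced endomorphism of the Čech complex. -/
noncomputable abbrev rCech (r : R) : KK m R d ⟶ KK m R d :=
  (cechComplexFunctor (stdCov (m + 1) R)).map (rEnd m R d r).hom

lemma cf_rCech (r : R) (x : (KK m R d).X (m + 1)) (σ : Fin (m + 2) → ULift.{u} (Fin (m + 2))) :
    cf ((rCech m R d r).f (m + 1) x) σ = r • cf x σ := by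
  unfold cf
  have h := proj_map (stdCov (m + 1) R) (Pd (m + 1) R d) (rEnd m R d r).hom (m + 1) σ x
  have h' : proj (stdCov (m + 1) R) (Pd (m + 1) R d) (m + 1) σ ((rCech m R d r).f (m + 1) x) =
      rsmul r (proj (stdCov (m + 1) R) (Pd (m + 1) R d) (m + 1) σ x) := h
  rw [h']
  exact Φs_rsmul σ r _

lemma topHom_rCech (r : R) (x : (KK m R d).X (m + 1)) :
    topHom m R d ((rCech m R d r).f (m + 1) x) = r • topHom m R d x := by
  classical
  apply Subtype.ext
  funext e
  change topFun _ e = r • topFun x e
  unfold topFun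
  by_cases h : ∀ i, e i < 0
  · rw [if_pos h, if_pos h, cf_rCech]
    rfl
  · rw [if_neg h, if_neg h, smul_zero]

/-- The top Čech cohomology, with the compatibility with the action of the base ring. -/
theorem exists_top_equiv_smul :
    ∃ ε : (KK m R d).homology (m + 1) ≃+ Ttop m R d, ∀ (r : R) (h : (KK m R d).homology (m + 1)),
      ε (HomologicalComplex.homologyMap (rCech m R d r) (m + 1) h) = r • ε h := by
  obtain ⟨ε, hε⟩ := exists_top_equiv (m := m) (R := R) (d := d)
  refine ⟨ε, fun r h => ?_⟩
  obtain ⟨z, rfl⟩ := homologyπ_surjective (KK m R d) m h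
  rw [homologyMap_homologyπ, hε, hε, iCycles_cyclesMap, topHom_rCech]

end Groth.Agent.Lib.Lead.Pn
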